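import Mathlib
import Cfsg.Prelude.Def_KGroupFacts

/-!
The Schur multiplier of a finite group through a free presentation: the central extension
`F ⧸ ⁅R, F⁆`, the group `(R ∩ F') ⧸ ⁅R, F⁆`, lifting and complements.
-/

set_option autoImplicit false

namespace CfsgLib.Schur

open scoped commutatorElement

universe u v w

variable {Q : Type v} [Group Q] {F : Type u} [Group F]

/-- The relations to divide by. -/
abbrev rel (π : F →* Q) : Subgroup F := ⁅π.ker, (⊤ : Subgroup F)⁆

theorem rel_le_ker (π : F →* Q) : rel π ≤ π.ker := Subgroup.commutator_le_left _ _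

/-- The central extension attached to a presentation. -/
abbrev Ext (π : F →* Q) := F ⧸ rel π

/-- Its projection. -/
abbrev proj (π : F →* Q) : Ext π →* Q := QuotientGroup.lift (rel π) π (rel_le_ker π)

/-- The multiplier subgroup. -/
abbrev mult (π : F →* Q) : Subgroup (Ext π) := (proj π).ker ⊓ commutator (Ext π)

theorem proj_mk (π : F →* Q) (x : F) : proj π (x : Ext π) = π x := rfl

theorem proj_surjective {π : F →* Q} (hπ : Function.Surjective π) : Function.Surjective (proj π) :=
  fun q => let ⟨x, hx⟩ := hπ q; ⟨(x : Ext π), hx⟩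

theorem ker_le_center (π : F →* Q) : (proj π).ker ≤ Subgroup.center (Ext π) := by
  intro x hx
  induction x using QuotientGroup.induction_on with
  | _ a =>
    rw [Subgroup.mem_center_iff]
    intro y
    induction y using QuotientGroup.induction_on with
    | _ b =>
      rw [← QuotientGroup.mk_mul, ← QuotientGroup.mk_mul, QuotientGroup.eq]
      have h : (b * a)⁻¹ * (a * b) = ⁅a⁻¹, b⁻¹⁆ := by rw [commutatorElement_def]; group
      rw [h]
      exact Subgroup.commutator_mem_commutator (inv_mem (MonoidHom.mem_ker.mp hx)) (Subgroup.mem_top _)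

theorem mult_le_center (π : F →* Q) : mult π ≤ Subgroup.center (Ext π) :=
  inf_le_left.trans (ker_le_center π)

instance (π : F →* Q) : IsMulCommutative (mult π) :=
  ⟨⟨fun a b => Subtype.ext (Subgroup.mem_center_iff.mp (mult_le_center π b.2) a)⟩⟩

instance (π : F →* Q) : CommGroup (mult π) :=
  { (inferInstance : Group (mult π)) with
    mul_comm := fun a b => Subtype.ext (Subgroup.mem_center_iff.mp (mult_le_center π b.2) a) }

theorem commutatorSet_finite {E : Type u} [Group E] [Subgroup.FiniteIndex (Subgroup.center E)] :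
    Finite (commutatorSet E) := by
  let f : (E ⧸ Subgroup.center E) × (E ⧸ Subgroup.center E) → commutatorSet E :=
    fun ab => ⟨⁅ab.1.out, ab.2.out⁆, ⟨_, _, rfl⟩⟩
  refine Finite.of_surjective f ?_
  rintro ⟨_, a, b, rfl⟩
  refine ⟨(↑a, ↑b), Subtype.ext ?_⟩
  obtain ⟨z, hz⟩ := QuotientGroup.mk_out_eq_mul (Subgroup.center E) a
  obtain ⟨z', hz'⟩ := QuotientGroup.mk_out_eq_mul (Subgroup.center E) b
  have h1 : ∀ (x : E) (c : Subgroup.center E), x * c = c * x := fun x c => Subgroup.mem_center_iff.mp c.2 x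
  show ⁅(a : E ⧸ Subgroup.center E).out, (b : E ⧸ Subgroup.center E).out⁆ = ⁅a, b⁆
  rw [hz, hz', commutatorElement_def, commutatorElement_def]
  calc a * z * (b * z') * (a * z)⁻¹ * (b * z')⁻¹
      = a * ((z : E) * b) * z' * ((z : E)⁻¹ * a⁻¹) * (b * z')⁻¹ := by group
    _ = a * (b * (z : E)) * z' * ((z : E)⁻¹ * a⁻¹) * (b * z')⁻¹ := by rw [← h1 b z]
    _ = a * b * ((z : E) * z' * (z : E)⁻¹) * a⁻¹ * (b * z')⁻¹ := by group
    _ = a * b * z' * a⁻¹ * (b * z')⁻¹ := by rw [h1 (z : E) z']; group
    _ = a * (b * z') * a⁻¹ * ((z' : E)⁻¹ * b⁻¹) := by group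
    _ = a * b * ((z' : E) * a⁻¹ * (z' : E)⁻¹) * b⁻¹ := by group
    _ = a * b * a⁻¹ * b⁻¹ := by rw [← h1 a⁻¹ z']; group

theorem finiteIndex_center [Finite Q] (π : F →* Q) : Subgroup.FiniteIndex (Subgroup.center (Ext π)) := by
  haveI : Subgroup.FiniteIndex (proj π).ker := by
    refine ⟨fun h => ?_⟩
    rw [Subgroup.index_ker] at h
    exact Nat.card_pos.ne' h
  exact Subgroup.finiteIndex_of_le (ker_le_center π)

theorem finite_commutator [Finite Q] (π : F →* Q) : Finite (commutator (Ext π)) := by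
  haveI := finiteIndex_center π
  haveI := commutatorSet_finite (E := Ext π)
  infer_instance

theorem finite_mult [Finite Q] (π : F →* Q) : Finite (mult π) := by
  haveI := finite_commutator π
  exact Finite.of_injective (Subgroup.inclusion inf_le_right) (Subgroup.inclusion_injective _)

/-- Lifting along a central extension. -/
theorem exists_lift [IsFreeGroup F] {π : F →* Q} {X : Type w} [Group X] {ξ : X →* Q}
    (hξ : Function.Surjective ξ) (hc : ξ.ker ≤ Subgroup.center X) :
    ∃ η : Ext π →* X, ξ.comp η = proj π := by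
  let g : F →* X := IsFreeGroup.lift fun a => Function.surjInv hξ (π (IsFreeGroup.of a))
  have hg : ξ.comp g = π := IsFreeGroup.ext_hom fun a => by
    rw [MonoidHom.comp_apply, IsFreeGroup.lift_of, Function.surjInv_eq hξ]
  have hk : rel π ≤ g.ker := by
    rw [Subgroup.commutator_le]
    intro a ha b _
    have ha' : g a ∈ Subgroup.center X := hc (by rw [MonoidHom.mem_ker, ← MonoidHom.comp_apply, hg]; exact ha)
    rw [MonoidHom.mem_ker, map_commutatorElement, commutatorElement_eq_one_iff_mul_comm]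
    exact (Subgroup.mem_center_iff.mp ha' _).symm
  refine ⟨QuotientGroup.lift _ g hk, MonoidHom.ext fun x => ?_⟩
  induction x using QuotientGroup.induction_on with
  | _ a => exact DFunLike.congr_fun hg a

/-- Images in a central extension with the kernel inside the commutator subgroup. -/
theorem surjective_of_stem {π : F →* Q} (hπ : Function.Surjective π) {X : Type w} [Group X]
    {ξ : X →* Q} (hc : ξ.ker ≤ Subgroup.center X) (hcom : ξ.ker ≤ commutator X) {η : Ext π →* X}
    (hη : ξ.comp η = proj π) : Function.Surjective η ∧ (mult π).map η = ξ.ker := by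
  have hdec : ∀ x : X, ∃ e : Ext π, ∃ z : X, z ∈ ξ.ker ∧ x = η e * z := by
    intro x
    obtain ⟨e, he⟩ := proj_surjective hπ (ξ x)
    refine ⟨e, (η e)⁻¹ * x, ?_, by group⟩
    rw [MonoidHom.mem_ker, map_mul, map_inv, ← MonoidHom.comp_apply, hη, he, inv_mul_cancel]
  have hcomm : commutator X ≤ (commutator (Ext π)).map η := by
    rw [commutator_def, Subgroup.commutator_le]
    intro x _ y _
    obtain ⟨e, z, hz, rfl⟩ := hdec x
    obtain ⟨f, z', hz', rfl⟩ := hdec y
    refine ⟨⁅e, f⁆, Subgroup.commutator_mem_commutator (Subgroup.mem_top _) (Subgroup.mem_top _), ?_⟩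
    have h1 := Subgroup.mem_center_iff.mp (hc hz)
    have h2 := Subgroup.mem_center_iff.mp (hc hz')
    rw [map_commutatorElement, commutatorElement_def, commutatorElement_def]
    symm
    calc η e * z * (η f * z') * (η e * z)⁻¹ * (η f * z')⁻¹
        = η e * (z * η f) * z' * (z⁻¹ * (η e)⁻¹) * (η f * z')⁻¹ := by group
      _ = η e * (η f * z) * z' * (z⁻¹ * (η e)⁻¹) * (η f * z')⁻¹ := by rw [← h1 (η f)]
      _ = η e * η f * (z * z' * z⁻¹) * (η e)⁻¹ * (η f * z')⁻¹ := by group
      _ = η e * η f * z' * (η e)⁻¹ * (η f * z')⁻¹ := by rw [← h1 z']; group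
      _ = η e * η f * (z' * (η e)⁻¹ * z'⁻¹) * (η f)⁻¹ := by group
      _ = η e * η f * (η e)⁻¹ * (η f)⁻¹ := by rw [← h2 (η e)⁻¹]; group
  constructor
  · intro x
    obtain ⟨e, z, hz, rfl⟩ := hdec x
    obtain ⟨c, -, hcz⟩ := hcomm (hcom hz)
    exact ⟨e * c, by rw [map_mul, hcz]⟩
  · refine le_antisymm ?_ fun z hz => ?_
    · rintro _ ⟨m, hm, rfl⟩
      rw [MonoidHom.mem_ker, ← MonoidHom.comp_apply, hη]
      exact hm.1
    · obtain ⟨c, hc', rfl⟩ := hcomm (hcom hz)
      refine ⟨c, ⟨?_, hc'⟩, rfl⟩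
      show proj π c = 1
      rw [← hη]
      exact hz

/-- The abelianisation of a finitely generated free group. -/
theorem exists_free_abelianization [IsFreeGroup F] [Group.FG F] :
    ∃ (V : Type u) (_ : AddCommGroup V), Module.Finite ℤ V ∧ Module.IsTorsionFree ℤ V ∧
      ∃ φ : F →* Multiplicative V, φ.ker = commutator F := by
  classical
  let V := IsFreeGroup.Generators F →₀ ℤ
  let φ : F →* Multiplicative V := IsFreeGroup.lift fun a => Multiplicative.ofAdd (Finsupp.single a 1)
  let ψ : V →+ Additive (Abelianization F) :=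
    Finsupp.liftAddHom fun a => zmultiplesHom _ (Additive.ofMul (Abelianization.of (IsFreeGroup.of a)))
  have hψ : (AddMonoidHom.toMultiplicativeLeft ψ).comp φ = Abelianization.of := IsFreeGroup.ext_hom fun a => by
    show Additive.toMul (ψ (Multiplicative.toAdd (φ (IsFreeGroup.of a)))) = _
    rw [IsFreeGroup.lift_of, toAdd_ofAdd, Finsupp.liftAddHom_apply_single]
    simp
  have hsurj : Function.Surjective φ := by
    have key : ∀ w : V, ∃ x, φ x = Multiplicative.ofAdd w := by
      intro w
      induction w using Finsupp.induction_linear with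
      | zero => exact ⟨1, map_one φ⟩
      | add f g hf hg =>
        obtain ⟨x, hx⟩ := hf
        obtain ⟨y, hy⟩ := hg
        exact ⟨x * y, by rw [map_mul, hx, hy, ofAdd_add]⟩
      | single a n =>
        refine ⟨IsFreeGroup.of a ^ n, ?_⟩
        rw [map_zpow, IsFreeGroup.lift_of, ← ofAdd_zsmul, Finsupp.smul_single, smul_eq_mul, mul_one]
    exact fun v => key v.toAdd
  refine ⟨V, inferInstance, ?_, inferInstance, φ, ?_⟩
  · haveI : Group.FG (Multiplicative V) := Group.fg_of_surjective hsurj
    exact Module.Finite.iff_addGroup_fg.mpr (AddGroup.fg_iff_mul_fg.mpr inferInstance)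
  · refine le_antisymm (fun x hx => ?_) (Abelianization.commutator_subset_ker φ)
    rw [← Abelianization.ker_of, MonoidHom.mem_ker, ← hψ, MonoidHom.comp_apply, MonoidHom.mem_ker.mp hx,
      map_one]

/-- Complements of the multiplier subgroup inside a subgroup covering the kernel. -/
theorem exists_compl [IsFreeGroup F] [Group.FG F] {π : F →* Q} (N : Subgroup (Ext π))
    (hN : N ≤ (proj π).ker) (hsup : N ⊔ mult π = (proj π).ker) :
    ∃ L : Subgroup (Ext π), L ≤ N ∧ L.Normal ∧ L ⊓ mult π = ⊥ ∧ L ⊔ mult π = (proj π).ker := by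
  obtain ⟨V, _, hfin, htf, φ, hφ⟩ := exists_free_abelianization (F := F)
  have hle : rel π ≤ φ.ker := by
    rw [hφ]
    exact Subgroup.commutator_mono le_top le_rfl
  let φ' : Ext π →* Multiplicative V := QuotientGroup.lift _ φ hle
  have hker : φ'.ker = commutator (Ext π) := by
    refine le_antisymm (fun x hx => ?_) (Abelianization.commutator_subset_ker φ')
    induction x using QuotientGroup.induction_on with
    | _ a =>
      have : a ∈ commutator F := hφ ▸ MonoidHom.mem_ker.mpr (MonoidHom.mem_ker.mp hx)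
      have h2 := Subgroup.mem_map_of_mem (QuotientGroup.mk' (rel π)) this
      rw [commutator_def, Subgroup.map_commutator] at h2
      exact Subgroup.commutator_mono le_top le_top h2
  let S : Submodule ℤ V := AddSubgroup.toIntSubmodule (Subgroup.toAddSubgroup' (N.map φ'))
  haveI := hfin
  haveI := htf
  haveI : Module.Free ℤ S := inferInstance
  let b := Module.Free.chooseBasis ℤ S
  have hpre : ∀ s : S, ∃ n ∈ N, φ' n = Multiplicative.ofAdd (s : V) := fun s => by
    obtain ⟨n, hn, hn'⟩ := s.2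
    exact ⟨n, hn, hn'⟩
  letI : CommGroup N := { (inferInstance : Group N) with
    mul_comm := fun a c => Subtype.ext (Subgroup.mem_center_iff.mp (ker_le_center π (hN c.2)) a) }
  let g : S →ₗ[ℤ] Additive N := b.constr ℤ fun i => Additive.ofMul (⟨(hpre (b i)).choose, (hpre (b i)).choose_spec.1⟩ : N)
  let f : N →* Multiplicative V := φ'.comp N.subtype
  have hsec : ∀ s : S, f (Additive.toMul (g s)) = Multiplicative.ofAdd (s : V) := by
    have : (MonoidHom.toAdditive f).toIntLinearMap.comp g = S.subtype.restrictScalars ℤ := by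
      refine b.ext fun i => ?_
      simp only [g, LinearMap.comp_apply, Module.Basis.constr_basis]
      show Multiplicative.toAdd (f ⟨(hpre (b i)).choose, _⟩) = _
      exact congrArg Multiplicative.toAdd (hpre (b i)).choose_spec.2
    intro s
    exact congrArg Multiplicative.ofAdd (LinearMap.congr_fun this s)
  let L : Subgroup (Ext π) := ((AddMonoidHom.toMultiplicativeLeft g.toAddMonoidHom).range).map N.subtype
  have hLN : L ≤ N := Subgroup.map_subtype_le _
  have hLc : ∀ x ∈ L, ∀ y, y * x = x * y := fun x hx => Subgroup.mem_center_iff.mp (ker_le_center π (hN (hLN hx)))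
  refine ⟨L, hLN, ⟨fun x hx y => by rw [hLc x hx y, mul_inv_cancel_right]; exact hx⟩, ?_, ?_⟩
  · rw [eq_bot_iff]
    rintro _ ⟨⟨n, ⟨s, rfl⟩, rfl⟩, -, hc⟩
    have h1 : f (Additive.toMul (g s.toAdd)) = 1 := by
      have := hker.ge hc
      exact this
    rw [hsec, ofAdd_eq_one] at h1
    have : s.toAdd = 0 := Subtype.ext h1
    show ((Additive.toMul (g s.toAdd) : N) : Ext π) ∈ (⊥ : Subgroup (Ext π))
    rw [this, map_zero]
    exact Subgroup.one_mem _
  · refine le_antisymm (sup_le (hLN.trans hN) inf_le_left) ?_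
    rw [← hsup]
    refine sup_le (fun n hn => ?_) le_sup_right
    let s : S := ⟨Multiplicative.toAdd (φ' n), ⟨n, hn, rfl⟩⟩
    have hl : ((Additive.toMul (g s) : N) : Ext π) ∈ L := Subgroup.mem_map_of_mem N.subtype ⟨Multiplicative.ofAdd s, rfl⟩
    rw [show n = ((Additive.toMul (g s) : N) : Ext π) * (((Additive.toMul (g s) : N) : Ext π)⁻¹ * n) by group]
    refine Subgroup.mul_mem_sup hl (Subgroup.mem_inf.mpr ⟨mul_mem (inv_mem (hN (hLN hl))) (hN hn), hker.le ?_⟩)
    rw [MonoidHom.mem_ker, map_mul, map_inv]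
    show (f (Additive.toMul (g s)))⁻¹ * φ' n = 1
    rw [hsec]
    exact inv_mul_cancel _

theorem exists_compl' [IsFreeGroup F] [Group.FG F] (π : F →* Q) :
    ∃ L : Subgroup (Ext π), L ≤ (proj π).ker ∧ L.Normal ∧ L ⊓ mult π = ⊥ ∧ L ⊔ mult π = (proj π).ker :=
  exists_compl _ le_rfl (sup_eq_left.mpr inf_le_left)

/-- The quotient by a complement. -/
abbrev coverMap (π : F →* Q) {L : Subgroup (Ext π)} [L.Normal] (hL : L ≤ (proj π).ker) : Ext π ⧸ L →* Q :=
  QuotientGroup.lift L (proj π) hL

/-- A complement gives a stem extension with kernel the multiplier subgroup. -/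
theorem cover_spec [Finite Q] {π : F →* Q} (hπ : Function.Surjective π) {L : Subgroup (Ext π)} [L.Normal]
    (hL : L ≤ (proj π).ker) (h1 : L ⊓ mult π = ⊥) (h2 : L ⊔ mult π = (proj π).ker) :
    Finite (Ext π ⧸ L) ∧ Cfsg.IsStemExtension (coverMap π hL) ∧
      ∃ e : mult π ≃* (coverMap π hL).ker, ∀ m : mult π, ((e m : (coverMap π hL).ker) : Ext π ⧸ L) = ((m : Ext π) : Ext π ⧸ L) := by
  let f : mult π →* (coverMap π hL).ker :=
    ((QuotientGroup.mk' L).comp (mult π).subtype).codRestrict _ fun m => MonoidHom.mem_ker.mpr m.2.1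
  have hker : ∀ z ∈ (coverMap π hL).ker, ∃ m : mult π, ((m : Ext π) : Ext π ⧸ L) = z := by
    intro z hz
    induction z using QuotientGroup.induction_on with
    | _ a =>
      have ha : a ∈ L ⊔ mult π := by rw [h2]; exact hz
      obtain ⟨l, hl, m, hm, rfl⟩ := Subgroup.mem_sup_of_normal_left.mp ha
      exact ⟨⟨m, hm⟩, by rw [QuotientGroup.mk_mul, (QuotientGroup.eq_one_iff l).mpr hl, one_mul]⟩
  have hf : Function.Bijective f := by
    refine ⟨(injective_iff_map_eq_one f).mpr fun m hm => Subtype.ext ?_, fun z => ?_⟩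
    · have : (m : Ext π) ∈ L ⊓ mult π := ⟨(QuotientGroup.eq_one_iff _).mp (congrArg Subtype.val hm), m.2⟩
      rw [h1] at this
      exact Subgroup.mem_bot.mp this
    · obtain ⟨m, hm⟩ := hker z.1 z.2
      exact ⟨m, Subtype.ext hm⟩
  haveI := finite_mult π
  haveI : Finite (coverMap π hL).ker := Finite.of_surjective f hf.2
  refine ⟨?_, ⟨fun q => ?_, fun z hz => ?_, fun z hz => ?_⟩, MulEquiv.ofBijective f hf, fun m => rfl⟩
  · haveI : Finite ((Ext π ⧸ L) ⧸ (coverMap π hL).ker) :=
      Finite.of_injective _ (QuotientGroup.kerLift_injective (coverMap π hL))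
    exact Finite.of_equiv _ (Subgroup.groupEquivQuotientProdSubgroup (s := (coverMap π hL).ker)).symm
  · obtain ⟨x, hx⟩ := proj_surjective hπ q
    exact ⟨(x : Ext π ⧸ L), hx⟩
  · obtain ⟨m, rfl⟩ := hker z hz
    rw [Subgroup.mem_center_iff]
    intro y
    induction y using QuotientGroup.induction_on with
    | _ a => rw [← QuotientGroup.mk_mul, ← QuotientGroup.mk_mul, Subgroup.mem_center_iff.mp (mult_le_center π m.2) a]
  · obtain ⟨m, rfl⟩ := hker z hz
    have h := Subgroup.mem_map_of_mem (QuotientGroup.mk' L) m.2.2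
    rw [commutator_def, Subgroup.map_commutator] at h
    exact Subgroup.commutator_mono le_top le_top h

/-- The multiplier subgroup maps onto the kernel of every finite stem extension. -/
theorem exists_surjective_stem [IsFreeGroup F] {π : F →* Q} (hπ : Function.Surjective π) {X : Type w} [Group X]
    {ξ : X →* Q} (hξ : Cfsg.IsStemExtension ξ) : ∃ f : mult π →* ξ.ker, Function.Surjective f := by
  obtain ⟨η, hη⟩ := exists_lift (π := π) hξ.1 hξ.2.1
  obtain ⟨-, hmap⟩ := surjective_of_stem hπ hξ.2.1 hξ.2.2 hη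
  refine ⟨(η.comp (mult π).subtype).codRestrict _ fun m => hmap.le ⟨m, m.2, rfl⟩, fun z => ?_⟩
  obtain ⟨m, hm, hmz⟩ := hmap.ge z.2
  exact ⟨⟨m, hm⟩, Subtype.ext hmz⟩

/-- The multiplier subgroup is the Schur multiplier. -/
theorem hasSchurMultiplier {Q : Type u} [Group Q] [Finite Q] [IsFreeGroup F] [Group.FG F] {π : F →* Q}
    (hπ : Function.Surjective π) : Cfsg.HasSchurMultiplier Q (mult π) := by
  refine ⟨?_, fun Γ _ _ σ hσ => exists_surjective_stem hπ hσ⟩
  obtain ⟨L, hL, hn, h1, h2⟩ := exists_compl' π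
  obtain ⟨hfin, hst, e, -⟩ := cover_spec hπ hL h1 h2
  exact ⟨Ext π ⧸ L, inferInstance, hfin, coverMap π hL, hst, ⟨e.symm⟩⟩

theorem finite_of_hasSchur {Q : Type u} [Group Q] {A : Type w} [CommGroup A]
    (hA : Cfsg.HasSchurMultiplier Q A) : Finite A := by
  obtain ⟨Γ, _, _, σ, -, ⟨e⟩⟩ := hA.1
  exact Finite.of_equiv _ e.toEquiv

/-- The Schur multiplier is unique. -/
theorem mulEquiv_of_hasSchur {Q : Type u} [Group Q] {A : Type w} [CommGroup A] {B : Type*} [CommGroup B]
    (hA : Cfsg.HasSchurMultiplier Q A) (hB : Cfsg.HasSchurMultiplier Q B) : Nonempty (A ≃* B) := by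
  haveI := finite_of_hasSchur hA
  haveI := finite_of_hasSchur hB
  obtain ⟨Γ, _, _, σ, hσ, ⟨e⟩⟩ := hB.1
  obtain ⟨Δ, _, _, τ, hτ, ⟨e'⟩⟩ := hA.1
  obtain ⟨f, hf⟩ := hA.2 Γ σ hσ
  obtain ⟨g, hg⟩ := hB.2 Δ τ hτ
  have h1 : Nat.card B ≤ Nat.card A := Nat.card_le_card_of_surjective (e.toMonoidHom.comp f) (e.surjective.comp hf)
  have h2 : Nat.card A ≤ Nat.card B := Nat.card_le_card_of_surjective (e'.toMonoidHom.comp g) (e'.surjective.comp hg)
  exact ⟨MulEquiv.ofBijective (e.toMonoidHom.comp f)
    ((Nat.bijective_iff_surjective_and_card _).mpr ⟨e.surjective.comp hf, le_antisymm h2 h1⟩)⟩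

/-- The free presentation on the elements of a group. -/
abbrev basePres (Q : Type u) [Group Q] : FreeGroup Q →* Q := FreeGroup.lift id

theorem basePres_surjective (Q : Type u) [Group Q] : Function.Surjective (basePres Q) :=
  fun q => ⟨FreeGroup.of q, FreeGroup.lift_apply_of⟩

/-- The universal property holds for extensions in every universe. -/
theorem exists_surjective_any {G : Type u} [Group G] {A : Type w} [CommGroup A]
    (hA : Cfsg.HasSchurMultiplier G A) {Δ : Type v} [Group Δ] [Finite Δ] {β : Δ →* G}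
    (hβ : Cfsg.IsStemExtension β) : ∃ p : A →* β.ker, Function.Surjective p := by
  obtain ⟨Γ, _, _, σ, hσ, -⟩ := hA.1
  haveI : Finite G := Finite.of_surjective σ hσ.1
  haveI : Small.{u} Δ := inferInstance
  let e : Shrink.{u} Δ ≃* Δ := (equivShrink Δ).symm.mulEquiv
  let β' : Shrink.{u} Δ →* G := β.comp e.toMonoidHom
  have hker : ∀ x, x ∈ β'.ker ↔ e x ∈ β.ker := fun x => Iff.rfl
  have hβ' : Cfsg.IsStemExtension β' := by
    refine ⟨hβ.1.comp e.surjective, fun x hx => ?_, fun x hx => ?_⟩
    · rw [Subgroup.mem_center_iff]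
      intro y
      apply e.injective
      rw [map_mul, map_mul, Subgroup.mem_center_iff.mp (hβ.2.1 ((hker x).mp hx)) (e y)]
    · have h := Subgroup.mem_map_of_mem e.symm.toMonoidHom (hβ.2.2 ((hker x).mp hx))
      rw [commutator_def, Subgroup.map_commutator] at h
      have hx' : e.symm.toMonoidHom (e x) = x := e.symm_apply_apply x
      rw [hx'] at h
      exact Subgroup.commutator_mono le_top le_top h
  haveI : Finite (Shrink.{u} Δ) := Finite.of_equiv _ e.toEquiv.symm
  obtain ⟨p, hp⟩ := hA.2 (Shrink.{u} Δ) β' hβ'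
  let g : β'.ker →* β.ker := (e.toMonoidHom.comp β'.ker.subtype).codRestrict _ fun x => (hker x.1).mp x.2
  refine ⟨g.comp p, fun z => ?_⟩
  obtain ⟨a, ha⟩ := hp ⟨e.symm z.1, by rw [hker, e.apply_symm_apply]; exact z.2⟩
  exact ⟨a, Subtype.ext (by show e (p a).1 = z.1; rw [ha]; exact e.apply_symm_apply _)⟩

theorem ker_eq_bot_of_trivial_any {G : Type u} [Group G] (h : Cfsg.HasCyclicSchurMultiplier G 1)
    {Δ : Type v} [Group Δ] [Finite Δ] {β : Δ →* G} (hβ : Cfsg.IsStemExtension β) : β.ker = ⊥ := by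
  obtain ⟨p, hp⟩ := exists_surjective_any h hβ
  rw [eq_bot_iff]
  intro x hx
  obtain ⟨a, ha⟩ := hp ⟨x, hx⟩
  rw [Subsingleton.elim a 1, map_one] at ha
  exact Subgroup.mem_bot.mpr (congrArg Subtype.val ha).symm

theorem mulEquiv_mult {Q : Type u} [Group Q] [Finite Q] {A : Type w} [CommGroup A]
    (hA : Cfsg.HasSchurMultiplier Q A) [IsFreeGroup F] [Group.FG F] {π : F →* Q}
    (hπ : Function.Surjective π) : Nonempty (A ≃* mult π) :=
  mulEquiv_of_hasSchur hA (hasSchurMultiplier hπ)

/-- A stem extension with kernel as large as the multiplier is a cover. -/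
theorem exists_surjective_of_card {Q : Type u} [Group Q] [Finite Q] {Γ : Type v} [Group Γ] [Finite Γ] {σ : Γ →* Q}
    (hσ : Cfsg.IsStemExtension σ) (hcard : Nat.card (mult (basePres Q)) ≤ Nat.card σ.ker) {Δ : Type w}
    [Group Δ] {τ : Δ →* Q} (hτ : Cfsg.IsStemExtension τ) :
    ∃ p : σ.ker →* τ.ker, Function.Surjective p := by
  haveI := finite_mult (basePres Q)
  obtain ⟨f, hf⟩ := exists_surjective_stem (basePres_surjective Q) hσ
  have hbij : Function.Bijective f :=
    (Nat.bijective_iff_surjective_and_card _).mpr ⟨hf, le_antisymm hcard (Nat.card_le_card_of_surjective f hf)⟩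
  obtain ⟨g, hg⟩ := exists_surjective_stem (basePres_surjective Q) hτ
  exact ⟨g.comp (MulEquiv.ofBijective f hbij).symm.toMonoidHom, hg.comp (MulEquiv.surjective _)⟩

end CfsgLib.Schur
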