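import Mathlib

/-!
A model of the metacyclic group with kernel of order `M` and quotient of order `n`.
-/

set_option autoImplicit false

namespace CfsgLib.Schur

/-- The parameters of a metacyclic group. -/
structure MCData where
  /-- the order of the normal generator -/
  M : ℕ
  /-- the order of the quotient -/
  n : ℕ
  /-- the conjugation exponent -/
  r : ℕ
  /-- the power of the second generator -/
  t : ℕ
  hM : M ≠ 0
  hn : n ≠ 0
  hr : (r : ZMod M) ^ n = 1
  ht : (t : ZMod M) * r = t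

namespace MCData

/-- The unit of conjugation. -/
def U (D : MCData) : (ZMod D.M)ˣ := Units.ofPowEqOne (D.r : ZMod D.M) D.n D.hr D.hn

theorem U_val (D : MCData) : (D.U : ZMod D.M) = D.r := rfl

theorem U_pow (D : MCData) : D.U ^ D.n = 1 := Units.ext (by rw [Units.val_pow_eq_pow_val, U_val, D.hr, Units.val_one])

theorem U_zpow_t (D : MCData) (k : ℤ) : ((D.U ^ k : (ZMod D.M)ˣ) : ZMod D.M) * D.t = D.t := by
  induction k using Int.induction_on with
  | zero => simp
  | succ k ih => rw [zpow_add_one, Units.val_mul, mul_assoc, U_val, mul_comm (D.r : ZMod D.M), D.ht, ih]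
  | pred k ih =>
    rw [zpow_sub_one, Units.val_mul, mul_assoc]
    have h : ((D.U⁻¹ : (ZMod D.M)ˣ) : ZMod D.M) * D.t = D.t := by
      conv_lhs => rw [← D.ht, mul_comm (D.t : ZMod D.M), ← mul_assoc, ← U_val, ← Units.val_mul, inv_mul_cancel,
        Units.val_one, one_mul]
    rw [h, ih]

/-- The semidirect product with the integers. -/
@[ext]
structure Pre (D : MCData) where
  /-- the normal component -/
  fst : ZMod D.M
  /-- the quotient component -/
  snd : ℤ

namespace Pre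

variable {D : MCData}

instance : Mul (Pre D) := ⟨fun a b => ⟨a.fst + (D.U ^ a.snd : (ZMod D.M)ˣ) * b.fst, a.snd + b.snd⟩⟩
instance : One (Pre D) := ⟨⟨0, 0⟩⟩
instance : Inv (Pre D) := ⟨fun a => ⟨-((D.U ^ (-a.snd) : (ZMod D.M)ˣ) * a.fst), -a.snd⟩⟩

theorem mul_fst (a b : Pre D) : (a * b).fst = a.fst + (D.U ^ a.snd : (ZMod D.M)ˣ) * b.fst := rfl
theorem mul_snd (a b : Pre D) : (a * b).snd = a.snd + b.snd := rfl
theorem one_fst : (1 : Pre D).fst = 0 := rfl
theorem one_snd : (1 : Pre D).snd = 0 := rfl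
theorem inv_fst (a : Pre D) : a⁻¹.fst = -((D.U ^ (-a.snd) : (ZMod D.M)ˣ) * a.fst) := rfl
theorem inv_snd (a : Pre D) : a⁻¹.snd = -a.snd := rfl

instance : Group (Pre D) where
  mul_assoc a b c := by
    ext
    · simp only [mul_fst, mul_snd, zpow_add, Units.val_mul]; ring
    · simp only [mul_snd]; ring
  one_mul a := by ext <;> simp [mul_fst, mul_snd, one_fst, one_snd]
  mul_one a := by ext <;> simp [mul_fst, mul_snd, one_fst, one_snd]
  inv_mul_cancel a := by
    ext
    · simp [mul_fst, inv_fst, inv_snd, one_fst]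
    · simp [mul_snd, inv_snd, one_snd]

/-- The central element to divide by. -/
def z (D : MCData) : Pre D := ⟨-(D.t : ZMod D.M), D.n⟩

theorem z_central (a : Pre D) : a * z D = z D * a := by
  ext
  · rw [mul_fst, mul_fst]
    show a.fst + _ * -(D.t : ZMod D.M) = -(D.t : ZMod D.M) + ((D.U ^ (D.n : ℤ) : (ZMod D.M)ˣ) : ZMod D.M) * a.fst
    rw [zpow_natCast, U_pow, Units.val_one, one_mul, mul_neg, U_zpow_t]
    ring
  · simp only [mul_snd]; ring

instance : (Subgroup.zpowers (z D)).Normal :=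
  ⟨fun x hx y => by
    obtain ⟨k, rfl⟩ := hx
    have h : Commute y ((z D) ^ k) := (show Commute y (z D) from z_central y).zpow_right k
    show y * (z D) ^ k * y⁻¹ ∈ _
    rw [h.eq, mul_inv_cancel_right]
    exact Subgroup.zpow_mem _ (Subgroup.mem_zpowers _) k⟩

theorem zpow_snd (a : Pre D) (k : ℤ) : (a ^ k).snd = k * a.snd := by
  induction k using Int.induction_on with
  | zero => simp [one_snd]
  | succ k ih => rw [zpow_add_one, mul_snd, ih]; ring
  | pred k ih => rw [zpow_sub_one, mul_snd, inv_snd, ih]; ring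

end Pre

/-- The model group. -/
abbrev Model (D : MCData) := Pre D ⧸ Subgroup.zpowers (Pre.z D)

/-- The normal generator. -/
def gA (D : MCData) : Model D := ((⟨1, 0⟩ : Pre D) : Model D)

/-- The second generator. -/
def gB (D : MCData) : Model D := ((⟨0, 1⟩ : Pre D) : Model D)

variable {D : MCData}

theorem gA_pow (i : ℕ) : gA D ^ i = ((⟨(i : ZMod D.M), 0⟩ : Pre D) : Model D) := by
  induction i with
  | zero => rw [pow_zero, ← QuotientGroup.mk_one]; exact congrArg _ (by ext <;> simp [Pre.one_fst, Pre.one_snd])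
  | succ i ih =>
    rw [pow_succ, ih, gA, ← QuotientGroup.mk_mul]
    exact congrArg _ (by ext <;> simp [Pre.mul_fst, Pre.mul_snd])

theorem gB_pow (i : ℕ) : gB D ^ i = ((⟨0, (i : ℤ)⟩ : Pre D) : Model D) := by
  induction i with
  | zero => rw [pow_zero, ← QuotientGroup.mk_one]; exact congrArg _ (by ext <;> simp [Pre.one_fst, Pre.one_snd])
  | succ i ih =>
    rw [pow_succ, ih, gB, ← QuotientGroup.mk_mul]
    exact congrArg _ (by ext <;> simp [Pre.mul_fst, Pre.mul_snd])

theorem gA_pow_M : gA D ^ D.M = 1 := by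
  rw [gA_pow, ← QuotientGroup.mk_one]
  exact congrArg _ (by ext <;> simp [Pre.one_fst, Pre.one_snd])

theorem gB_conj : gB D * gA D * (gB D)⁻¹ = gA D ^ D.r := by
  rw [gA_pow, gA, gB, ← QuotientGroup.mk_inv, ← QuotientGroup.mk_mul, ← QuotientGroup.mk_mul]
  exact congrArg _ (by ext <;> simp [Pre.mul_fst, Pre.mul_snd, Pre.inv_fst, Pre.inv_snd, U_val])

theorem gB_pow_n : gB D ^ D.n = gA D ^ D.t := by
  rw [gA_pow, gB_pow, QuotientGroup.eq]
  refine ⟨-1, ?_⟩
  show (Pre.z D) ^ (-1 : ℤ) = _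
  rw [zpow_neg_one]
  ext
  · simp only [Pre.z, Pre.inv_fst, Pre.mul_fst, Pre.inv_snd, mul_zero, neg_zero, mul_neg, neg_neg, zero_add]
  · simp [Pre.z, Pre.inv_snd, Pre.mul_snd]

theorem eq_one_of_prod {i j : ℕ} (hj : j < D.n) (h : gA D ^ i * gB D ^ j = 1) : j = 0 ∧ D.M ∣ i := by
  rw [gA_pow, gB_pow, ← QuotientGroup.mk_mul, QuotientGroup.eq_one_iff] at h
  obtain ⟨k, hk⟩ := h
  have hk' : (Pre.z D) ^ k = _ := hk
  have h2 := congrArg Pre.snd hk'
  rw [Pre.zpow_snd] at h2
  simp only [Pre.z, Pre.mul_snd, zero_add] at h2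
  have hk0 : k = 0 := by
    rcases lt_trichotomy k 0 with hk0 | hk0 | hk0
    · nlinarith [Int.natCast_nonneg j, (by exact_mod_cast Nat.pos_of_ne_zero D.hn : (0 : ℤ) < D.n)]
    · exact hk0
    · have : (j : ℤ) < D.n := by exact_mod_cast hj
      nlinarith
  subst hk0
  have hj0 : j = 0 := by omega
  refine ⟨hj0, ?_⟩
  rw [zpow_zero] at hk'
  have h1 := congrArg Pre.fst hk'
  simp only [Pre.one_fst, Pre.mul_fst, mul_zero, add_zero] at h1
  exact (ZMod.natCast_eq_zero_iff _ _).mp h1.symm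

theorem exists_prod (x : Model D) : ∃ i j : ℕ, j < D.n ∧ x = gA D ^ i * gB D ^ j := by
  induction x using QuotientGroup.induction_on with
  | _ a =>
    haveI : NeZero D.M := ⟨D.hM⟩
    have hn : (0 : ℤ) < D.n := by exact_mod_cast Nat.pos_of_ne_zero D.hn
    obtain ⟨j, hj⟩ : ∃ j : ℕ, (j : ℤ) = a.snd % D.n := ⟨_, Int.toNat_of_nonneg (Int.emod_nonneg _ hn.ne')⟩
    set q := a.snd / (D.n : ℤ)
    have hdecomp : ((a * (Pre.z D) ^ (-q) : Pre D) : Model D) = (a : Model D) := by
      rw [QuotientGroup.mk_mul, (QuotientGroup.eq_one_iff _).mpr (Subgroup.zpow_mem _ (Subgroup.mem_zpowers _) _), mul_one]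
    refine ⟨(a * (Pre.z D) ^ (-q)).fst.val, j, ?_, ?_⟩
    · have := Int.emod_lt_of_pos a.snd hn
      omega
    · rw [gA_pow, gB_pow, ← QuotientGroup.mk_mul, ← hdecomp]
      refine congrArg _ ?_
      ext
      · simp [Pre.mul_fst, ZMod.natCast_val, ZMod.cast_id']
      · simp only [Pre.mul_snd, Pre.zpow_snd, Pre.z, zero_add, hj]
        have := Int.emod_add_mul_ediv a.snd D.n
        linarith [this]

theorem finite_model : Finite (Model D) := by
  haveI : NeZero D.M := ⟨D.hM⟩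
  refine Finite.of_surjective (fun ij : Fin D.M × Fin D.n => gA D ^ (ij.1 : ℕ) * gB D ^ (ij.2 : ℕ)) fun x => ?_
  obtain ⟨i, j, hj, rfl⟩ := exists_prod x
  refine ⟨(⟨i % D.M, Nat.mod_lt _ (Nat.pos_of_ne_zero D.hM)⟩, ⟨j, hj⟩), ?_⟩
  show gA D ^ (i % D.M) * gB D ^ j = _
  rw [← pow_eq_pow_mod i gA_pow_M]

theorem orderOf_gA : orderOf (gA D) = D.M := by
  refine Nat.dvd_antisymm (orderOf_dvd_of_pow_eq_one gA_pow_M) ?_
  exact (eq_one_of_prod (j := 0) (Nat.pos_of_ne_zero D.hn) (by rw [pow_orderOf_eq_one, pow_zero, mul_one])).2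

/-- The universal property. -/
theorem exists_hom (D : MCData) {H : Type*} [Group H] (A B : H) (h1 : A ^ D.M = 1) (h2 : B * A * B⁻¹ = A ^ D.r)
    (h3 : B ^ D.n = A ^ D.t) : ∃ f : Model D →* H, f (gA D) = A ∧ f (gB D) = B := by
  haveI : NeZero D.M := ⟨D.hM⟩
  let ι : ZMod D.M →+ Additive H := ZMod.lift D.M ⟨zmultiplesHom _ (Additive.ofMul A), by
    show ((D.M : ℤ)) • Additive.ofMul A = 0
    rw [natCast_zsmul]; exact congrArg Additive.ofMul h1⟩
  let e : ZMod D.M → H := fun a => Additive.toMul (ι a)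
  have he : ∀ a b, e (a + b) = e a * e b := fun a b => by show Additive.toMul (ι (a + b)) = _; rw [map_add]; rfl
  have hec : ∀ i : ℕ, e (i : ZMod D.M) = A ^ i := fun i => by
    show Additive.toMul (ι (i : ZMod D.M)) = _
    rw [← Int.cast_natCast, ZMod.lift_coe]
    show Additive.toMul ((i : ℤ) • Additive.ofMul A) = _
    rw [toMul_zsmul, zpow_natCast]; rfl
  have he0 : e 0 = 1 := by show Additive.toMul (ι 0) = 1; rw [map_zero]; rfl
  have hconj : ∀ a, B * e a * B⁻¹ = e ((D.r : ZMod D.M) * a) := fun a => by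
    rw [← ZMod.natCast_zmod_val a, hec, ← Nat.cast_mul, hec, ← conj_pow, h2, ← pow_mul]
  have hconjz : ∀ (k : ℤ) a, B ^ k * e a * (B ^ k)⁻¹ = e ((D.U ^ k : (ZMod D.M)ˣ) * a) := by
    intro k
    induction k using Int.induction_on with
    | zero => intro a; simp
    | succ k ih =>
      intro a
      rw [zpow_add_one, zpow_add_one, Units.val_mul, U_val, mul_assoc ((D.U ^ (k : ℤ) : (ZMod D.M)ˣ) : ZMod D.M), ← ih, ← hconj]
      group
    | pred k ih =>
      intro a
      have h := hconj (((D.U⁻¹ : (ZMod D.M)ˣ) : ZMod D.M) * a)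
      rw [← mul_assoc, ← U_val, ← Units.val_mul, mul_inv_cancel, Units.val_one, one_mul] at h
      rw [zpow_sub_one, zpow_sub_one, Units.val_mul, mul_assoc ((D.U ^ (-(k : ℤ)) : (ZMod D.M)ˣ) : ZMod D.M), ← ih, ← h]
      group
  let F : Pre D →* H := MonoidHom.mk' (fun a => e a.fst * B ^ a.snd) fun a b => by
    show e (a * b).fst * B ^ (a * b).snd = _
    rw [Pre.mul_fst, Pre.mul_snd, he, ← hconjz, zpow_add]
    group
  have hz : Pre.z D ∈ F.ker := by
    show e (-(D.t : ZMod D.M)) * B ^ (D.n : ℤ) = 1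
    rw [zpow_natCast, h3, ← hec, ← he, neg_add_cancel, he0]
  refine ⟨QuotientGroup.lift _ F (Subgroup.zpowers_le.mpr hz), ?_, ?_⟩
  · show e 1 * B ^ (0 : ℤ) = A
    rw [zpow_zero, mul_one, ← Nat.cast_one, hec, pow_one]
  · show e 0 * B ^ (1 : ℤ) = B
    rw [he0, one_mul, zpow_one]

end MCData

end CfsgLib.Schur
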