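import Cfsg.Agent.Lib.SchurTheory.Hopf

/-!
Universal central extensions of finite perfect groups.
-/

set_option autoImplicit false

namespace CfsgLib.Schur

open scoped commutatorElement

universe u v w

/-- Commutators only depend on the classes modulo the centre. -/
theorem comm_eq_of_central {E : Type u} [Group E] {a b z z' : E} (hz : z ∈ Subgroup.center E)
    (hz' : z' ∈ Subgroup.center E) : ⁅a * z, b * z'⁆ = ⁅a, b⁆ := by
  have h1 : ∀ x, x * z = z * x := Subgroup.mem_center_iff.mp hz
  have h2 : ∀ x, x * z' = z' * x := Subgroup.mem_center_iff.mp hz'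
  rw [commutatorElement_def, commutatorElement_def]
  calc a * z * (b * z') * (a * z)⁻¹ * (b * z')⁻¹
      = a * (z * b) * z' * (z⁻¹ * a⁻¹) * (b * z')⁻¹ := by group
    _ = a * (b * z) * z' * (z⁻¹ * a⁻¹) * (b * z')⁻¹ := by rw [← h1 b]
    _ = a * b * (z * z' * z⁻¹) * a⁻¹ * (b * z')⁻¹ := by group
    _ = a * b * z' * a⁻¹ * (b * z')⁻¹ := by rw [← h1 z']; group
    _ = a * b * (z' * a⁻¹ * z'⁻¹) * b⁻¹ := by group
    _ = a * b * a⁻¹ * b⁻¹ := by rw [← h2 a⁻¹]; group

/-- Maps from a perfect group into a central extension are determined over the base. -/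
theorem lift_unique {G : Type u} {E : Type v} {H : Type w} [Group G] [Group E] [Group H]
    (hG : commutator G = ⊤) (π : E →* H) (hc : π.ker ≤ Subgroup.center E) {τ τ' : G →* E}
    (h : π.comp τ = π.comp τ') : τ = τ' := by
  have hs : commutator G ≤ τ.eqLocus τ' := by
    rw [commutator_def, Subgroup.commutator_le]
    intro a _ b _
    show τ ⁅a, b⁆ = τ' ⁅a, b⁆
    have key : ∀ x, ∃ z ∈ Subgroup.center E, τ x = τ' x * z := fun x =>
      ⟨(τ' x)⁻¹ * τ x, hc (by
        rw [MonoidHom.mem_ker, map_mul, map_inv, ← MonoidHom.comp_apply, ← MonoidHom.comp_apply, h,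
          inv_mul_cancel]), by group⟩
    obtain ⟨z, hz, ha⟩ := key a
    obtain ⟨z', hz', hb⟩ := key b
    rw [map_commutatorElement, map_commutatorElement, ha, hb, comm_eq_of_central hz hz']
  rw [hG] at hs
  exact MonoidHom.ext fun g => hs (Subgroup.mem_top g)

theorem sup_center_eq_top {E : Type u} [Group E] {Q : Type v} [Group Q] {f : E →* Q} (hf : Function.Surjective f)
    (hQ : commutator Q = ⊤) : commutator E ⊔ f.ker = ⊤ := by
  rw [eq_top_iff]
  intro e _
  have h := (Subgroup.map_commutator (⊤ : Subgroup E) ⊤ f)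
  rw [Subgroup.map_top_of_surjective f hf, ← commutator_def, ← commutator_def, hQ] at h
  obtain ⟨c, hc, hce⟩ := h.ge (Subgroup.mem_top (f e))
  rw [show e = c * (c⁻¹ * e) by group]
  exact Subgroup.mul_mem_sup hc (by rw [MonoidHom.mem_ker, map_mul, map_inv, hce, inv_mul_cancel])

theorem perfect_commutator {E : Type u} [Group E] (h : commutator E ⊔ Subgroup.center E = ⊤) :
    commutator (commutator E) = ⊤ := by
  have hdec : ∀ e : E, ∃ c ∈ commutator E, ∃ z ∈ Subgroup.center E, e = c * z := fun e => by
    obtain ⟨c, hc, z, hz, he⟩ := Subgroup.mem_sup_of_normal_left.mp (h.ge (Subgroup.mem_top e))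
    exact ⟨c, hc, z, hz, he.symm⟩
  rw [← Group.isPerfect_def, Subgroup.isPerfect_iff]
  refine le_antisymm (Subgroup.commutator_le.mpr fun a _ b _ => ?_) ?_
  · exact Subgroup.commutator_mem_commutator (Subgroup.mem_top a) (Subgroup.mem_top b)
  · conv_lhs => rw [commutator_def]
    rw [Subgroup.commutator_le]
    intro a _ b _
    obtain ⟨c, hc, z, hz, rfl⟩ := hdec a
    obtain ⟨d, hd, z', hz', rfl⟩ := hdec b
    rw [comm_eq_of_central hz hz']
    exact Subgroup.commutator_mem_commutator hc hd

/-- A finite perfect group has a universal central extension. -/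
theorem exists_universal {Q : Type u} [Group Q] [Finite Q] (hQ : Group.IsPerfect Q) :
    ∃ (G : Type u) (_ : Group G) (_ : Finite G) (π : G →* Q), Group.IsPerfect G ∧ Function.Surjective π ∧
      π.ker ≤ Subgroup.center G ∧ ∀ (X : Type u) [Group X] (ξ : X →* Q), Function.Surjective ξ →
      ξ.ker ≤ Subgroup.center X → ∃! η : G →* X, ξ.comp η = π := by
  let p := basePres Q
  have hp := basePres_surjective Q
  have hsup : commutator (Ext p) ⊔ Subgroup.center (Ext p) = ⊤ :=
    top_le_iff.mp ((sup_center_eq_top (proj_surjective hp) hQ.commutator_eq_top).ge.trans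
      (sup_le_sup_left (ker_le_center p) _))
  have hperf := perfect_commutator hsup
  let G := ↥(commutator (Ext p))
  let π : G →* Q := (proj p).comp (commutator (Ext p)).subtype
  refine ⟨G, inferInstance, finite_commutator p, π, ⟨hperf⟩, fun q => ?_, fun x hx => ?_, fun X _ ξ hξ hc => ?_⟩
  · obtain ⟨e, rfl⟩ := proj_surjective hp q
    obtain ⟨c, hc, z, hz, rfl⟩ := Subgroup.mem_sup_of_normal_left.mp
      ((sup_center_eq_top (proj_surjective hp) hQ.commutator_eq_top).ge (Subgroup.mem_top e))
    exact ⟨⟨c, hc⟩, by show proj p c = proj p (c * z); rw [map_mul, MonoidHom.mem_ker.mp hz, mul_one]⟩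
  · rw [Subgroup.mem_center_iff]
    intro y
    exact Subtype.ext (Subgroup.mem_center_iff.mp (ker_le_center p hx) y.1)
  · obtain ⟨η, hη⟩ := exists_lift (π := p) hξ hc
    refine ⟨η.comp (commutator (Ext p)).subtype, ?_, fun τ hτ => lift_unique hperf ξ hc (hτ.trans ?_)⟩
    · show ξ.comp (η.comp _) = π
      rw [← MonoidHom.comp_assoc, hη]
    · rw [← MonoidHom.comp_assoc, hη]

/-- A perfect central extension is universal exactly when its multiplier is trivial. -/
theorem universal_iff {G : Type u} {Q : Type v} [Group G] [Group Q] [Finite G] (hG : Group.IsPerfect G)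
    (π : G →* Q) (hπ : Function.Surjective π) (hker : π.ker ≤ Subgroup.center G) :
    (∀ (X : Type u) [Group X] (ξ : X →* Q), Function.Surjective ξ → ξ.ker ≤ Subgroup.center X →
      ∃ η : G →* X, ξ.comp η = π) ↔ Cfsg.HasCyclicSchurMultiplier G 1 := by
  have hGc := hG.commutator_eq_top
  constructor
  · intro hU
    refine ⟨⟨G, inferInstance, inferInstance, MonoidHom.id G,
      ⟨Function.surjective_id, by simp [MonoidHom.ker_id], by simp [MonoidHom.ker_id]⟩, ?_⟩, ?_⟩
    · rw [MonoidHom.ker_id]
      exact ⟨MulEquiv.ofUnique⟩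
    intro Γ _ _ τ hτ
    suffices hbot : τ.ker = ⊥ from ⟨1, fun x => ⟨1, Subtype.ext (Subgroup.mem_bot.mp (hbot ▸ x.2)).symm⟩⟩
    have hΓ : commutator Γ = ⊤ := by
      have := sup_center_eq_top hτ.1 hGc
      rwa [sup_eq_left.mpr hτ.2.2] at this
    have hc : (π.comp τ).ker ≤ Subgroup.center Γ := by
      intro x hx
      -- the commutator with `x` is a homomorphism into the centre
      have hcen : ∀ y, ⁅x, y⁆ ∈ Subgroup.center Γ := fun y => hτ.2.1 (by
        rw [MonoidHom.mem_ker, map_commutatorElement, commutatorElement_eq_one_iff_mul_comm]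
        exact (Subgroup.mem_center_iff.mp (hker hx) (τ y)).symm)
      let f : Γ →* Subgroup.center Γ :=
        { toFun := fun y => ⟨⁅x, y⁆, hcen y⟩
          map_one' := Subtype.ext (commutatorElement_one_right x)
          map_mul' := fun y z => Subtype.ext (by
            show ⁅x, y * z⁆ = ⁅x, y⁆ * ⁅x, z⁆
            calc ⁅x, y * z⁆ = ⁅x, y⁆ * (y * ⁅x, z⁆ * y⁻¹) := by rw [commutatorElement_def, commutatorElement_def, commutatorElement_def]; group
              _ = ⁅x, y⁆ * ⁅x, z⁆ := by rw [Subgroup.mem_center_iff.mp (hcen z) y, mul_inv_cancel_right]) }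
      rw [Subgroup.mem_center_iff]
      intro y
      have hy : y ∈ f.ker := by
        have h1 : commutator Γ ≤ f.ker := by
          rw [commutator_def, Subgroup.commutator_le]
          intro a _ b _
          rw [MonoidHom.mem_ker, map_commutatorElement, commutatorElement_eq_one_iff_mul_comm]
          exact Subtype.ext (Subgroup.mem_center_iff.mp (f b).2 (f a).1)
        exact h1 (hΓ.ge (Subgroup.mem_top y))
      exact (commutatorElement_eq_one_iff_mul_comm.mp (congrArg Subtype.val (MonoidHom.mem_ker.mp hy))).symm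
    obtain ⟨η, hη⟩ := hU Γ (π.comp τ) (hπ.comp hτ.1) hc
    have hid : τ.comp η = MonoidHom.id G := lift_unique hGc π hker (by rw [← MonoidHom.comp_assoc, hη, MonoidHom.comp_id])
    have hsurj : commutator Γ ≤ η.range := by
      rw [commutator_def, Subgroup.commutator_le]
      intro a _ b _
      have key : ∀ a : Γ, ∃ z ∈ Subgroup.center Γ, a = η (τ a) * z := fun a =>
        ⟨(η (τ a))⁻¹ * a, hτ.2.1 (by
          rw [MonoidHom.mem_ker, map_mul, map_inv, ← MonoidHom.comp_apply τ η, hid, MonoidHom.id_apply,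
            inv_mul_cancel]), by group⟩
      obtain ⟨z, hz, ha⟩ := key a
      obtain ⟨z', hz', hb⟩ := key b
      rw [ha, hb, comm_eq_of_central hz hz', ← map_commutatorElement]
      exact ⟨_, rfl⟩
    rw [eq_bot_iff]
    intro x hx
    obtain ⟨g, rfl⟩ := hsurj (hΓ.ge (Subgroup.mem_top x))
    have hg : τ (η g) = g := DFunLike.congr_fun hid g
    rw [MonoidHom.mem_ker, hg] at hx
    rw [hx, map_one]
    exact Subgroup.one_mem _
  · intro hM X _ ξ hξ hc
    let p := basePres G
    have hp := basePres_surjective G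
    obtain ⟨e⟩ := mulEquiv_mult hM hp
    have hM1 : mult p = ⊥ := by
      rw [eq_bot_iff]
      intro m hm
      have h : (⟨m, hm⟩ : mult p) = 1 := e.symm.injective (Subsingleton.elim _ _)
      exact Subgroup.mem_bot.mpr (congrArg Subtype.val h)
    let S : Subgroup (X × G) := (ξ.comp (MonoidHom.fst X G)).eqLocus (π.comp (MonoidHom.snd X G))
    let q : S →* G := (MonoidHom.snd X G).comp S.subtype
    have hq : Function.Surjective q := fun g => by
      obtain ⟨x, hx⟩ := hξ (π g)
      exact ⟨⟨(x, g), hx⟩, rfl⟩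
    have hqc : q.ker ≤ Subgroup.center S := by
      rintro ⟨⟨x, g⟩, hm⟩ hk
      obtain rfl : g = 1 := hk
      have hx : x ∈ Subgroup.center X := hc ((show ξ x = π 1 from hm).trans (map_one π))
      rw [Subgroup.mem_center_iff]
      rintro ⟨⟨x', g'⟩, hm'⟩
      exact Subtype.ext (Prod.ext (Subgroup.mem_center_iff.mp hx x') (by simp))
    obtain ⟨η, hη⟩ := exists_lift (π := p) hq hqc
    let r : commutator (Ext p) →* G := (proj p).comp (commutator (Ext p)).subtype
    have hr : Function.Bijective r := by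
      refine ⟨(injective_iff_map_eq_one r).mpr fun x hx => Subtype.ext ?_, fun g => ?_⟩
      · have : (x : Ext p) ∈ mult p := ⟨hx, x.2⟩
        rw [hM1] at this
        exact Subgroup.mem_bot.mp this
      · obtain ⟨e', rfl⟩ := proj_surjective hp g
        obtain ⟨c, hc', z, hz, rfl⟩ := Subgroup.mem_sup_of_normal_left.mp
          ((sup_center_eq_top (proj_surjective hp) hGc).ge (Subgroup.mem_top e'))
        exact ⟨⟨c, hc'⟩, by show proj p c = proj p (c * z); rw [map_mul, MonoidHom.mem_ker.mp hz, mul_one]⟩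
    let s : G →* S := (η.comp (commutator (Ext p)).subtype).comp (MulEquiv.ofBijective r hr).symm.toMonoidHom
    refine ⟨((MonoidHom.fst X G).comp S.subtype).comp s, MonoidHom.ext fun g => ?_⟩
    show ξ (s g).1.1 = π g
    refine (s g).2.trans ?_
    show π (q (s g)) = π g
    congr 1
    show q (η ((MulEquiv.ofBijective r hr).symm g).1) = g
    rw [← MonoidHom.comp_apply q η, hη]
    exact (MulEquiv.ofBijective r hr).apply_symm_apply g

end CfsgLib.Schur
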