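import Cfsg.Agent.Lib.SchurTheory.Perfect

/-!
The Schur multiplier of a direct product.
-/

set_option autoImplicit false

namespace CfsgLib.Schur

open scoped commutatorElement TensorProduct

universe u v w

/-- The commutator subgroup of a central extension is the image of the commutator subgroup of the universal one. -/
theorem commutator_le_map {Q : Type v} [Group Q] {F : Type u} [Group F] {π : F →* Q} (hπ : Function.Surjective π)
    {X : Type w} [Group X] {ξ : X →* Q} (hc : ξ.ker ≤ Subgroup.center X) {η : Ext π →* X}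
    (hη : ξ.comp η = proj π) : commutator X ≤ (commutator (Ext π)).map η := by
  rw [commutator_def, Subgroup.commutator_le]
  intro x _ y _
  have key : ∀ a : X, ∃ e : Ext π, ∃ z ∈ Subgroup.center X, a = η e * z := fun a => by
    obtain ⟨e, he⟩ := proj_surjective hπ (ξ a)
    exact ⟨e, (η e)⁻¹ * a, hc (by rw [MonoidHom.mem_ker, map_mul, map_inv, ← MonoidHom.comp_apply, hη, he, inv_mul_cancel]), by group⟩
  obtain ⟨e, z, hz, rfl⟩ := key x
  obtain ⟨f, z', hz', rfl⟩ := key y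
  rw [comm_eq_of_central hz hz', ← map_commutatorElement]
  exact ⟨_, Subgroup.commutator_mem_commutator (Subgroup.mem_top e) (Subgroup.mem_top f), rfl⟩

/-- Transport along an isomorphism of the coefficient group. -/
theorem hasSchur_congr {G : Type u} [Group G] {A : Type v} [CommGroup A] {B : Type w} [CommGroup B] (e : A ≃* B)
    (h : Cfsg.HasSchurMultiplier G A) : Cfsg.HasSchurMultiplier G B := by
  obtain ⟨⟨Γ, i₁, i₂, σ, hσ, ⟨e'⟩⟩, h2⟩ := h
  refine ⟨⟨Γ, i₁, i₂, σ, hσ, ⟨e'.trans e⟩⟩, fun Δ _ _ τ hτ => ?_⟩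
  obtain ⟨f, hf⟩ := h2 Δ τ hτ
  exact ⟨f.comp e.symm.toMonoidHom, hf.comp e.symm.surjective⟩

/-- The tensor product of the commutator quotients. -/
abbrev abTensor (Q₁ : Type u) (Q₂ : Type v) [Group Q₁] [Group Q₂] : Type max u v :=
  Additive (Abelianization Q₁) ⊗[ℤ] Additive (Abelianization Q₂)

theorem finite_abTensor (Q₁ : Type u) (Q₂ : Type v) [Group Q₁] [Group Q₂] [Finite Q₁] [Finite Q₂] :
    Finite (abTensor Q₁ Q₂) := by
  haveI : Finite (Additive (Abelianization Q₁)) := Finite.of_equiv _ Additive.ofMul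
  haveI : Finite (Additive (Abelianization Q₂)) := Finite.of_equiv _ Additive.ofMul
  haveI : Module.Finite ℤ (Additive (Abelianization Q₁)) := Module.Finite.of_finite
  haveI : Module.Finite ℤ (Additive (Abelianization Q₂)) := Module.Finite.of_finite
  haveI : Module.Finite ℤ (abTensor Q₁ Q₂) := Module.Finite.tensorProduct ℤ _ _
  refine Module.finite_of_fg_torsion _ fun {x} => ?_
  refine ⟨⟨(Nat.card (Additive (Abelianization Q₁)) : ℤ),
    mem_nonZeroDivisors_of_ne_zero (Nat.cast_ne_zero.mpr Nat.card_pos.ne')⟩, ?_⟩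
  show (Nat.card (Additive (Abelianization Q₁)) : ℤ) • x = 0
  induction x using TensorProduct.induction_on with
  | zero => exact smul_zero _
  | tmul a b => rw [TensorProduct.smul_tmul', natCast_zsmul, card_nsmul_eq_zero', TensorProduct.zero_tmul]
  | add a b ha hb => rw [smul_add, ha, hb, add_zero]

/-- A central extension of a product of two groups by a bilinear cocycle. -/
structure Twist {X : Type u} {Y : Type v} {T : Type w} [Group X] [Group Y] [AddCommGroup T]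
    (β : Additive X →+ Additive Y →+ T) where
  /-- the first component -/
  fst : X
  /-- the second component -/
  snd : Y
  /-- the central component -/
  val : T

namespace Twist

variable {X : Type u} {Y : Type v} {T : Type w} [Group X] [Group Y] [AddCommGroup T]
  {β : Additive X →+ Additive Y →+ T}

theorem ext' {a b : Twist β} (h1 : a.fst = b.fst) (h2 : a.snd = b.snd) (h3 : a.val = b.val) : a = b := by
  cases a; cases b; simp_all

instance : Mul (Twist β) :=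
  ⟨fun a b => ⟨a.fst * b.fst, a.snd * b.snd, a.val + b.val + β (Additive.ofMul a.fst) (Additive.ofMul b.snd)⟩⟩
instance : One (Twist β) := ⟨⟨1, 1, 0⟩⟩
instance : Inv (Twist β) :=
  ⟨fun a => ⟨a.fst⁻¹, a.snd⁻¹, -a.val + β (Additive.ofMul a.fst) (Additive.ofMul a.snd)⟩⟩

theorem mul_def (a b : Twist β) : a * b =
    ⟨a.fst * b.fst, a.snd * b.snd, a.val + b.val + β (Additive.ofMul a.fst) (Additive.ofMul b.snd)⟩ := rfl
theorem one_def : (1 : Twist β) = ⟨1, 1, 0⟩ := rfl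
theorem inv_def (a : Twist β) : a⁻¹ =
    ⟨a.fst⁻¹, a.snd⁻¹, -a.val + β (Additive.ofMul a.fst) (Additive.ofMul a.snd)⟩ := rfl

instance : Group (Twist β) where
  mul_assoc a b c := ext' (mul_assoc _ _ _) (mul_assoc _ _ _) (by
    simp only [mul_def, ofMul_mul, map_add, AddMonoidHom.add_apply]; abel)
  one_mul a := ext' (one_mul _) (one_mul _) (by simp [mul_def, one_def])
  mul_one a := ext' (mul_one _) (mul_one _) (by simp [mul_def, one_def])
  inv_mul_cancel a := ext' (inv_mul_cancel _) (inv_mul_cancel _) (by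
    simp only [mul_def, one_def, inv_def, ofMul_inv, map_neg, AddMonoidHom.neg_apply]; abel)

instance [Finite X] [Finite Y] [Finite T] : Finite (Twist β) :=
  Finite.of_injective (fun a => (a.fst, a.snd, a.val)) fun a b h =>
    ext' (congrArg Prod.fst h) (congrArg (fun t => t.2.1) h) (congrArg (fun t => t.2.2) h)

/-- The first inclusion. -/
def inl : X →* Twist β where
  toFun x := ⟨x, 1, 0⟩
  map_one' := rfl
  map_mul' a b := ext' rfl (one_mul 1).symm (by simp [mul_def])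

/-- The second inclusion. -/
def inr : Y →* Twist β where
  toFun y := ⟨1, y, 0⟩
  map_one' := rfl
  map_mul' a b := ext' (one_mul 1).symm rfl (by simp [mul_def])

/-- The central inclusion. -/
def inc : Multiplicative T →* Twist β where
  toFun t := ⟨1, 1, t.toAdd⟩
  map_one' := rfl
  map_mul' a b := ext' (one_mul 1).symm (one_mul 1).symm (by simp [mul_def])

theorem eq_prod (a : Twist β) : a = inr a.snd * inl a.fst * inc (Multiplicative.ofAdd a.val) :=
  ext' (by simp [mul_def, inl, inr, inc]) (by simp [mul_def, inl, inr, inc]) (by simp [mul_def, inl, inr, inc])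

theorem comm_inl_inr (x : X) (y : Y) :
    ⁅(inl x : Twist β), (inr y : Twist β)⁆ = inc (Multiplicative.ofAdd (β (Additive.ofMul x) (Additive.ofMul y))) := by
  rw [commutatorElement_def]
  refine ext' ?_ ?_ ?_ <;> simp [mul_def, inv_def, inl, inr, inc]

end Twist

/-- The multiplier of a product. -/
theorem hasSchur_prod {Q₁ : Type u} {Q₂ : Type v} [Group Q₁] [Group Q₂] [Finite Q₁] [Finite Q₂] :
    Cfsg.HasSchurMultiplier (Q₁ × Q₂)
      (mult (basePres Q₁) × mult (basePres Q₂) × Multiplicative (abTensor Q₁ Q₂)) := by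
  classical
  set p₁ := basePres Q₁
  set p₂ := basePres Q₂
  have hp₁ := basePres_surjective Q₁
  have hp₂ := basePres_surjective Q₂
  haveI := finite_abTensor Q₁ Q₂
  constructor
  · obtain ⟨L₁, hL₁, hn₁, a₁, b₁⟩ := exists_compl' p₁
    obtain ⟨L₂, hL₂, hn₂, a₂, b₂⟩ := exists_compl' p₂
    obtain ⟨hf₁, hst₁, e₁, -⟩ := cover_spec hp₁ hL₁ a₁ b₁
    obtain ⟨hf₂, hst₂, e₂, -⟩ := cover_spec hp₂ hL₂ a₂ b₂
    haveI := hf₁
    haveI := hf₂
    set σ₁ := coverMap p₁ hL₁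
    set σ₂ := coverMap p₂ hL₂
    let i₁ : Additive (Ext p₁ ⧸ L₁) →+ Additive (Abelianization Q₁) := MonoidHom.toAdditive (Abelianization.of.comp σ₁)
    let i₂ : Additive (Ext p₂ ⧸ L₂) →+ Additive (Abelianization Q₂) := MonoidHom.toAdditive (Abelianization.of.comp σ₂)
    let β : Additive (Ext p₁ ⧸ L₁) →+ Additive (Ext p₂ ⧸ L₂) →+ abTensor Q₁ Q₂ :=
      AddMonoidHom.mk' (fun x => ((TensorProduct.mk ℤ _ _ (i₁ x)).toAddMonoidHom.comp i₂)) fun x y =>
        AddMonoidHom.ext fun z => by simp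
    let σ : Twist β →* Q₁ × Q₂ :=
      { toFun := fun a => (σ₁ a.fst, σ₂ a.snd)
        map_one' := by simp [Twist.one_def]
        map_mul' := fun a b => by simp [Twist.mul_def] }
    have hker : ∀ a, a ∈ σ.ker ↔ a.fst ∈ σ₁.ker ∧ a.snd ∈ σ₂.ker := fun a => Prod.mk_eq_one
    have hβ1 : ∀ x ∈ σ₁.ker, ∀ y, β (Additive.ofMul x) (Additive.ofMul y) = 0 := fun x hx y => by
      show i₁ (Additive.ofMul x) ⊗ₜ[ℤ] i₂ (Additive.ofMul y) = 0
      rw [show i₁ (Additive.ofMul x) = 0 from congrArg Additive.ofMul (by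
        show Abelianization.of (σ₁ x) = 1
        rw [MonoidHom.mem_ker.mp hx, map_one]), TensorProduct.zero_tmul]
    have hβ2 : ∀ x, ∀ y ∈ σ₂.ker, β (Additive.ofMul x) (Additive.ofMul y) = 0 := fun x y hy => by
      show i₁ (Additive.ofMul x) ⊗ₜ[ℤ] i₂ (Additive.ofMul y) = 0
      rw [show i₂ (Additive.ofMul y) = 0 from congrArg Additive.ofMul (by
        show Abelianization.of (σ₂ y) = 1
        rw [MonoidHom.mem_ker.mp hy, map_one]), TensorProduct.tmul_zero]
    have hT : ∀ t : abTensor Q₁ Q₂, Twist.inc (Multiplicative.ofAdd t) ∈ commutator (Twist β) := by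
      intro t
      induction t using TensorProduct.induction_on with
      | zero => rw [ofAdd_zero, map_one]; exact one_mem _
      | add a b ha hb => rw [ofAdd_add, map_mul]; exact mul_mem ha hb
      | tmul a b =>
        obtain ⟨x', hx'⟩ := QuotientGroup.mk_surjective a.toMul
        obtain ⟨y', hy'⟩ := QuotientGroup.mk_surjective b.toMul
        obtain ⟨x, rfl⟩ := hst₁.1 x'
        obtain ⟨y, rfl⟩ := hst₂.1 y'
        have : a ⊗ₜ[ℤ] b = β (Additive.ofMul x) (Additive.ofMul y) :=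
          congrArg₂ (fun a b => a ⊗ₜ[ℤ] b) (congrArg Additive.ofMul hx').symm (congrArg Additive.ofMul hy').symm
        rw [this, ← Twist.comm_inl_inr]
        exact Subgroup.commutator_mem_commutator (Subgroup.mem_top _) (Subgroup.mem_top _)
    have hst : Cfsg.IsStemExtension σ := by
      refine ⟨fun q => ?_, fun a ha => ?_, fun a ha => ?_⟩
      · obtain ⟨x, hx⟩ := hst₁.1 q.1
        obtain ⟨y, hy⟩ := hst₂.1 q.2
        exact ⟨⟨x, y, 0⟩, Prod.ext hx hy⟩
      · obtain ⟨h1, h2⟩ := (hker a).mp ha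
        rw [Subgroup.mem_center_iff]
        intro b
        refine Twist.ext' ?_ ?_ ?_
        · exact Subgroup.mem_center_iff.mp (hst₁.2.1 h1) _
        · exact Subgroup.mem_center_iff.mp (hst₂.2.1 h2) _
        · simp only [Twist.mul_def, hβ1 _ h1, hβ2 _ _ h2, add_zero, add_comm]
      · obtain ⟨h1, h2⟩ := (hker a).mp ha
        rw [Twist.eq_prod a]
        refine mul_mem (mul_mem ?_ ?_) (hT _)
        · have h := Subgroup.mem_map_of_mem (Twist.inr : (Ext p₂ ⧸ L₂) →* Twist β) (hst₂.2.2 h2)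
          rw [commutator_def, Subgroup.map_commutator] at h
          exact Subgroup.commutator_mono le_top le_top h
        · have h := Subgroup.mem_map_of_mem (Twist.inl : (Ext p₁ ⧸ L₁) →* Twist β) (hst₁.2.2 h1)
          rw [commutator_def, Subgroup.map_commutator] at h
          exact Subgroup.commutator_mono le_top le_top h
    let E : σ.ker ≃* σ₁.ker × σ₂.ker × Multiplicative (abTensor Q₁ Q₂) :=
      { toFun := fun a => (⟨a.1.fst, ((hker a.1).mp a.2).1⟩, ⟨a.1.snd, ((hker a.1).mp a.2).2⟩, Multiplicative.ofAdd a.1.val)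
        invFun := fun t => ⟨⟨t.1.1, t.2.1.1, t.2.2.toAdd⟩, (hker _).mpr ⟨t.1.2, t.2.1.2⟩⟩
        left_inv := fun a => Subtype.ext (Twist.ext' rfl rfl rfl)
        right_inv := fun t => rfl
        map_mul' := fun a b => by
          refine Prod.ext (Subtype.ext rfl) (Prod.ext (Subtype.ext rfl) ?_)
          show Multiplicative.ofAdd (a.1 * b.1).val = _
          rw [Twist.mul_def, hβ1 _ ((hker a.1).mp a.2).1, add_zero]
          rfl }
    exact ⟨Twist β, inferInstance, inferInstance, σ, hst, ⟨E.trans ((e₁.symm).prodCongr ((e₂.symm).prodCongr (MulEquiv.refl _)))⟩⟩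
  intro Γ _ _ σ hσ
  letI : CommGroup σ.ker := { (inferInstance : Group σ.ker) with
    mul_comm := fun a b => Subtype.ext (Subgroup.mem_center_iff.mp (hσ.2.1 b.2) a) }
  let H₁ : Subgroup Γ := ((MonoidHom.snd Q₁ Q₂).comp σ).ker
  let H₂ : Subgroup Γ := ((MonoidHom.fst Q₁ Q₂).comp σ).ker
  let σ₁ : H₁ →* Q₁ := ((MonoidHom.fst Q₁ Q₂).comp σ).comp H₁.subtype
  let σ₂ : H₂ →* Q₂ := ((MonoidHom.snd Q₁ Q₂).comp σ).comp H₂.subtype
  have hσ₁ : Function.Surjective σ₁ := fun q => by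
    obtain ⟨g, hg⟩ := hσ.1 (q, 1)
    exact ⟨⟨g, by show (σ g).2 = 1; rw [hg]⟩, by show (σ g).1 = q; rw [hg]⟩
  have hσ₂ : Function.Surjective σ₂ := fun q => by
    obtain ⟨g, hg⟩ := hσ.1 (1, q)
    exact ⟨⟨g, by show (σ g).1 = 1; rw [hg]⟩, by show (σ g).2 = q; rw [hg]⟩
  have hk₁ : ∀ h : H₁, h ∈ σ₁.ker → h.1 ∈ σ.ker := fun h hh => Prod.ext hh h.2
  have hk₂ : ∀ h : H₂, h ∈ σ₂.ker → h.1 ∈ σ.ker := fun h hh => Prod.ext h.2 hh
  have hc₁ : σ₁.ker ≤ Subgroup.center H₁ := fun h hh => Subgroup.mem_center_iff.mpr fun y =>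
    Subtype.ext (Subgroup.mem_center_iff.mp (hσ.2.1 (hk₁ h hh)) y.1)
  have hc₂ : σ₂.ker ≤ Subgroup.center H₂ := fun h hh => Subgroup.mem_center_iff.mpr fun y =>
    Subtype.ext (Subgroup.mem_center_iff.mp (hσ.2.1 (hk₂ h hh)) y.1)
  obtain ⟨η₁, hη₁⟩ := exists_lift (π := p₁) hσ₁ hc₁
  obtain ⟨η₂, hη₂⟩ := exists_lift (π := p₂) hσ₂ hc₂
  let f₁ : mult p₁ →* σ.ker := ((H₁.subtype.comp η₁).comp (mult p₁).subtype).codRestrict _ fun m => hk₁ _ (by
    rw [MonoidHom.mem_ker, ← MonoidHom.comp_apply, hη₁]; exact m.2.1)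
  let f₂ : mult p₂ →* σ.ker := ((H₂.subtype.comp η₂).comp (mult p₂).subtype).codRestrict _ fun m => hk₂ _ (by
    rw [MonoidHom.mem_ker, ← MonoidHom.comp_apply, hη₂]; exact m.2.1)
  -- the commutator pairing
  let s₁ : Q₁ → H₁ := Function.surjInv hσ₁
  let s₂ : Q₂ → H₂ := Function.surjInv hσ₂
  have hcen : ∀ (x : H₁) (y : H₂), ⁅x.1, y.1⁆ ∈ σ.ker := fun x y => by
    rw [MonoidHom.mem_ker, map_commutatorElement]
    refine Prod.ext ?_ ?_
    · show ⁅(σ x.1).1, (σ y.1).1⁆ = 1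
      rw [show (σ y.1).1 = 1 from y.2, commutatorElement_one_right]
    · show ⁅(σ x.1).2, (σ y.1).2⁆ = 1
      rw [show (σ x.1).2 = 1 from x.2, commutatorElement_one_left]
  have hind : ∀ (x x' : H₁) (y y' : H₂), σ₁ x = σ₁ x' → σ₂ y = σ₂ y' → ⁅x.1, y.1⁆ = ⁅x'.1, y'.1⁆ := by
    intro x x' y y' hx hy
    have h1 : (x'⁻¹ * x).1 ∈ σ.ker := hk₁ _ (by rw [MonoidHom.mem_ker, map_mul, map_inv, hx, inv_mul_cancel])
    have h2 : (y'⁻¹ * y).1 ∈ σ.ker := hk₂ _ (by rw [MonoidHom.mem_ker, map_mul, map_inv, hy, inv_mul_cancel])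
    conv_lhs => rw [show x.1 = x'.1 * (x'⁻¹ * x).1 by simp, show y.1 = y'.1 * (y'⁻¹ * y).1 by simp]
    exact comm_eq_of_central (hσ.2.1 h1) (hσ.2.1 h2)
  let c : Q₁ →* Q₂ →* σ.ker := MonoidHom.mk' (fun a => MonoidHom.mk' (fun b => ⟨⁅(s₁ a).1, (s₂ b).1⁆, hcen _ _⟩)
      (fun b b' => Subtype.ext (by
        show ⁅(s₁ a).1, (s₂ (b * b')).1⁆ = ⁅(s₁ a).1, (s₂ b).1⁆ * ⁅(s₁ a).1, (s₂ b').1⁆
        rw [hind (s₁ a) (s₁ a) (s₂ (b * b')) (s₂ b * s₂ b') rfl (by rw [map_mul, Function.surjInv_eq hσ₂, Function.surjInv_eq hσ₂, Function.surjInv_eq hσ₂]),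
          Subgroup.coe_mul]
        have hz := Subgroup.mem_center_iff.mp (hσ.2.1 (hcen (s₁ a) (s₂ b')))
        calc ⁅(s₁ a).1, (s₂ b).1 * (s₂ b').1⁆ = ⁅(s₁ a).1, (s₂ b).1⁆ * ((s₂ b).1 * ⁅(s₁ a).1, (s₂ b').1⁆ * (s₂ b).1⁻¹) := by
              simp only [commutatorElement_def]; group
          _ = ⁅(s₁ a).1, (s₂ b).1⁆ * ⁅(s₁ a).1, (s₂ b').1⁆ := by rw [hz, mul_inv_cancel_right])))
    (fun a a' => MonoidHom.ext fun b => Subtype.ext (by
      show ⁅(s₁ (a * a')).1, (s₂ b).1⁆ = ⁅(s₁ a).1, (s₂ b).1⁆ * ⁅(s₁ a').1, (s₂ b).1⁆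
      rw [hind (s₁ (a * a')) (s₁ a * s₁ a') (s₂ b) (s₂ b) (by rw [map_mul, Function.surjInv_eq hσ₁, Function.surjInv_eq hσ₁, Function.surjInv_eq hσ₁]) rfl,
        Subgroup.coe_mul]
      have hz := Subgroup.mem_center_iff.mp (hσ.2.1 (hcen (s₁ a') (s₂ b)))
      calc ⁅(s₁ a).1 * (s₁ a').1, (s₂ b).1⁆ = (s₁ a).1 * ⁅(s₁ a').1, (s₂ b).1⁆ * (s₁ a).1⁻¹ * ⁅(s₁ a).1, (s₂ b).1⁆ := by
            simp only [commutatorElement_def]; group
        _ = ⁅(s₁ a').1, (s₂ b).1⁆ * ⁅(s₁ a).1, (s₂ b).1⁆ := by rw [hz (s₁ a).1, mul_inv_cancel_right]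
        _ = _ := (hz _).symm))
  let cAb : Abelianization Q₁ →* Abelianization Q₂ →* σ.ker :=
    Abelianization.lift (MonoidHom.mk' (fun a => Abelianization.lift (c a)) fun a a' =>
      Abelianization.hom_ext _ _ (MonoidHom.ext fun b => by simp))
  let cT : abTensor Q₁ Q₂ →+ Additive σ.ker :=
    TensorProduct.liftAddHom (AddMonoidHom.mk' (fun a => MonoidHom.toAdditive (cAb a.toMul)) fun a b =>
        AddMonoidHom.ext fun z => by
          show Additive.ofMul (cAb (a.toMul * b.toMul) z.toMul) = _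
          rw [map_mul]; rfl)
      (fun r a b => by
        simp only [AddMonoidHom.map_zsmul, AddMonoidHom.mk'_apply]
        rfl)
  let fT : Multiplicative (abTensor Q₁ Q₂) →* σ.ker := AddMonoidHom.toMultiplicativeLeft cT
  refine ⟨f₁.coprod (f₂.coprod fT), fun z => ?_⟩
  set R : Subgroup Γ := fT.range.map σ.ker.subtype with hRdef
  have hRc : R ≤ Subgroup.center Γ := fun x hx => hσ.2.1 ((Subgroup.map_subtype_le _) hx)
  haveI : R.Normal := ⟨fun x hx y => by rw [Subgroup.mem_center_iff.mp (hRc hx) y, mul_inv_cancel_right]; exact hx⟩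
  have hR : ∀ (x : H₁) (y : H₂), ⁅x.1, y.1⁆ ∈ R := fun x y => by
    refine ⟨_, ⟨Multiplicative.ofAdd (Additive.ofMul (Abelianization.of (σ₁ x)) ⊗ₜ[ℤ] Additive.ofMul (Abelianization.of (σ₂ y))), rfl⟩, ?_⟩
    exact hind _ _ _ _ (Function.surjInv_eq hσ₁ _) (Function.surjInv_eq hσ₂ _)
  haveI : H₁.Normal := inferInstance
  haveI : H₂.Normal := inferInstance
  let W : Subgroup Γ := ⁅H₁, H₁⁆ ⊔ ⁅H₂, H₂⁆ ⊔ R
  have hdec : ∀ g : Γ, ∃ a ∈ H₁, ∃ b ∈ H₂, g = a * b := fun g => by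
    obtain ⟨a, ha⟩ := hσ₁ (σ g).1
    refine ⟨a.1, a.2, a.1⁻¹ * g, ?_, by group⟩
    show (σ (a.1⁻¹ * g)).1 = 1
    rw [map_mul, map_inv, Prod.fst_mul, Prod.fst_inv, show (σ a.1).1 = (σ g).1 from ha, inv_mul_cancel]
  have hcW : commutator Γ ≤ W := by
    let q := QuotientGroup.mk' W
    have hq : ∀ a b, ⁅a, b⁆ ∈ W → Commute (q a) (q b) := fun a b h => by
      rw [← commutatorElement_eq_one_iff_commute, ← map_commutatorElement]
      exact (QuotientGroup.eq_one_iff _).mpr h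
    rw [commutator_def, Subgroup.commutator_le]
    intro x _ y _
    obtain ⟨a, ha, b, hb, rfl⟩ := hdec x
    obtain ⟨a', ha', b', hb', rfl⟩ := hdec y
    rw [← QuotientGroup.eq_one_iff (N := W)]
    show q ⁅a * b, a' * b'⁆ = 1
    rw [map_commutatorElement, commutatorElement_eq_one_iff_commute, map_mul, map_mul]
    have h1 := hq a a' (Subgroup.mem_sup_left (Subgroup.mem_sup_left (Subgroup.commutator_mem_commutator ha ha')))
    have h2 := hq b b' (Subgroup.mem_sup_left (Subgroup.mem_sup_right (Subgroup.commutator_mem_commutator hb hb')))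
    have h3 := hq a b' (Subgroup.mem_sup_right (hR ⟨a, ha⟩ ⟨b', hb'⟩))
    have h4 := hq a' b (Subgroup.mem_sup_right (hR ⟨a', ha'⟩ ⟨b, hb⟩))
    exact (h1.mul_right h3).mul_left (h4.symm.mul_right h2)
  obtain ⟨w, hw, r, hr, hzw⟩ := Subgroup.mem_sup_of_normal_right.mp (hcW (hσ.2.2 z.2))
  obtain ⟨u₁, hu₁, u₂, hu₂, rfl⟩ := Subgroup.mem_sup_of_normal_right.mp hw
  have hu₁' : u₁ ∈ H₁ := (Subgroup.commutator_le_left H₁ H₁) hu₁
  have hu₂' : u₂ ∈ H₂ := (Subgroup.commutator_le_left H₂ H₂) hu₂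
  have hrk : σ r = 1 := (Subgroup.map_subtype_le _) hr
  have hsum : σ u₁ * σ u₂ = 1 := by
    have h : σ (u₁ * u₂ * r) = 1 := by rw [hzw]; exact z.2
    rwa [map_mul, map_mul, hrk, mul_one] at h
  have k1 : (σ u₁).1 = 1 := by
    have h := congrArg Prod.fst hsum
    rwa [Prod.fst_mul, show (σ u₂).1 = 1 from hu₂', mul_one] at h
  have k2 : (σ u₂).2 = 1 := by
    have h := congrArg Prod.snd hsum
    rwa [Prod.snd_mul, show (σ u₁).2 = 1 from hu₁', one_mul] at h
  have m1 : ⟨u₁, hu₁'⟩ ∈ commutator H₁ := by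
    have h := Subgroup.map_subtype_commutator H₁
    rw [← h] at hu₁
    obtain ⟨t, ht, htu⟩ := hu₁
    rwa [show t = ⟨u₁, hu₁'⟩ from Subtype.ext htu] at ht
  have m2 : ⟨u₂, hu₂'⟩ ∈ commutator H₂ := by
    have h := Subgroup.map_subtype_commutator H₂
    rw [← h] at hu₂
    obtain ⟨t, ht, htu⟩ := hu₂
    rwa [show t = ⟨u₂, hu₂'⟩ from Subtype.ext htu] at ht
  obtain ⟨e₁, he₁, he₁u⟩ := commutator_le_map hp₁ hc₁ hη₁ m1
  obtain ⟨e₂, he₂, he₂u⟩ := commutator_le_map hp₂ hc₂ hη₂ m2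
  have n1 : e₁ ∈ mult p₁ := Subgroup.mem_inf.mpr ⟨by rw [MonoidHom.mem_ker, ← hη₁, MonoidHom.comp_apply, he₁u]; exact k1, he₁⟩
  have n2 : e₂ ∈ mult p₂ := Subgroup.mem_inf.mpr ⟨by rw [MonoidHom.mem_ker, ← hη₂, MonoidHom.comp_apply, he₂u]; exact k2, he₂⟩
  obtain ⟨r', ⟨t, rfl⟩, rfl⟩ := hr
  refine ⟨(⟨e₁, n1⟩, ⟨e₂, n2⟩, t), Subtype.ext ?_⟩
  show (η₁ e₁).1 * ((η₂ e₂).1 * (fT t).1) = z.1
  rw [he₁u, he₂u, ← hzw, mul_assoc]
  rfl

end CfsgLib.Schur
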