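import Cfsg.Agent.Lib.SchurTheory.Perfect

/-!
Projective representations and Schur covers.
-/

set_option autoImplicit false

namespace CfsgLib.Schur

open scoped commutatorElement

universe u v w

theorem center_root {k : ℕ} (z : GL (Fin k) ℂ) (hz : z ∈ Subgroup.center (GL (Fin k) ℂ)) {n : ℕ} (hn : n ≠ 0) :
    ∃ y ∈ Subgroup.center (GL (Fin k) ℂ), y ^ n = z := by
  rw [Matrix.GeneralLinearGroup.center_eq_range_scalar] at hz ⊢
  obtain ⟨c, rfl⟩ := hz
  obtain ⟨w, hw⟩ := IsAlgClosed.exists_pow_nat_eq (c : ℂ) (Nat.pos_of_ne_zero hn)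
  have hw0 : w ≠ 0 := by rintro rfl; rw [zero_pow hn] at hw; exact c.ne_zero hw.symm
  refine ⟨_, ⟨Units.mk0 w hw0, rfl⟩, ?_⟩
  rw [← map_pow]
  exact congrArg _ (Units.ext (by simpa using hw))

/-- Homomorphisms into the centre of `GL` extend from subgroups of abelian groups. -/
theorem extend_center {k : ℕ} {A : Type u} [CommGroup A] {N : Type v} [CommGroup N] (i : N →* A)
    (hi : Function.Injective i) (f : N →* Subgroup.center (GL (Fin k) ℂ)) :
    ∃ g : A →* Subgroup.center (GL (Fin k) ℂ), g.comp i = f := by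
  letI : CommGroup (Subgroup.center (GL (Fin k) ℂ)) := { (inferInstance : Group (Subgroup.center (GL (Fin k) ℂ))) with
    mul_comm := fun a b => Subtype.ext (Subgroup.mem_center_iff.mp b.2 a) }
  let Z := Additive (Subgroup.center (GL (Fin k) ℂ))
  have hroot : ∀ {n : ℤ}, n ≠ 0 → ∀ a : Z, ∃ b : Z, n • b = a := by
    intro n hn a
    obtain ⟨y, hy, hyn⟩ := center_root a.toMul.1 a.toMul.2 (Int.natAbs_ne_zero.mpr hn)
    have hb : (n.natAbs : ℤ) • Additive.ofMul (⟨y, hy⟩ : Subgroup.center (GL (Fin k) ℂ)) = a := by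
      rw [natCast_zsmul]
      exact Additive.toMul.injective (Subtype.ext hyn)
    rcases Int.natAbs_eq n with h | h
    · exact ⟨Additive.ofMul ⟨y, hy⟩, by rw [h]; exact hb⟩
    · exact ⟨-Additive.ofMul ⟨y, hy⟩, by
        conv_lhs => rw [h]
        rw [neg_smul, smul_neg, neg_neg]
        exact hb⟩
  letI : DivisibleBy Z ℤ :=
    { div := fun a n => if hn : n = 0 then 0 else (hroot hn a).choose
      div_zero := fun a => dif_pos rfl
      div_cancel := fun {n} a hn => by rw [dif_neg hn]; exact (hroot hn a).choose_spec }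
  obtain ⟨g, hg⟩ := Module.Baer.extension_property_addMonoidHom (Module.Baer.of_divisible Z)
    (MonoidHom.toAdditive i) hi (MonoidHom.toAdditive f)
  exact ⟨MonoidHom.toAdditive.symm g, MonoidHom.ext fun x => congrArg Additive.toMul (DFunLike.congr_fun hg (Additive.ofMul x))⟩

theorem ker_le_proj {Q : Type u} [Group Q] {F : Type v} [Group F] {π : F →* Q} {Γ : Type w} [Group Γ] {σ : Γ →* Q}
    {η : Ext π →* Γ} (hη : σ.comp η = proj π) : η.ker ≤ (proj π).ker := fun x hx => by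
  rw [MonoidHom.mem_ker, ← hη, MonoidHom.comp_apply, MonoidHom.mem_ker.mp hx, map_one]

/-- Every projective representation lifts along a stem extension whose kernel is as large as the multiplier. -/
theorem exists_proj_lift {Q : Type u} [Group Q] [Finite Q] {Γ : Type v} [Group Γ] [Finite Γ] {σ : Γ →* Q}
    (hσ : Cfsg.IsStemExtension σ) (hcard : Nat.card (mult (basePres Q)) ≤ Nat.card σ.ker) (n : ℕ)
    (γ : Q →* (GL (Fin n) ℂ ⧸ Subgroup.center (GL (Fin n) ℂ))) :
    ∃ ρ : Γ →* GL (Fin n) ℂ, (QuotientGroup.mk' (Subgroup.center (GL (Fin n) ℂ))).comp ρ = γ.comp σ := by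
  let p := basePres Q
  have hp := basePres_surjective Q
  haveI := finite_mult p
  obtain ⟨η, hη⟩ := exists_lift (π := p) hσ.1 hσ.2.1
  obtain ⟨hsurj, hmap⟩ := surjective_of_stem hp hσ.2.1 hσ.2.2 hη
  let f : mult p →* σ.ker := (η.comp (mult p).subtype).codRestrict _ fun m => hmap.le ⟨m, m.2, rfl⟩
  have hf : Function.Surjective f := fun z => by
    obtain ⟨m, hm, hmz⟩ := hmap.ge z.2
    exact ⟨⟨m, hm⟩, Subtype.ext hmz⟩
  have hfinj : Function.Injective f :=
    ((Nat.bijective_iff_surjective_and_card _).mpr ⟨hf, le_antisymm hcard (Nat.card_le_card_of_surjective f hf)⟩).1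
  have hN : η.ker ≤ (proj p).ker := ker_le_proj hη
  have hNM : ∀ x ∈ η.ker, x ∈ commutator (Ext p) → x = 1 := fun x hx hxc => by
    have : (⟨x, hN hx, hxc⟩ : mult p) = 1 := hfinj (Subtype.ext (by
      show η x = (f 1).1
      rw [map_one, MonoidHom.mem_ker.mp hx]
      rfl))
    exact congrArg Subtype.val this
  -- the pullback of the projective representation
  let Z := Subgroup.center (GL (Fin n) ℂ)
  let S : Subgroup (GL (Fin n) ℂ × Q) :=
    ((QuotientGroup.mk' Z).comp (MonoidHom.fst _ _)).eqLocus (γ.comp (MonoidHom.snd _ _))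
  let q : S →* Q := (MonoidHom.snd _ _).comp S.subtype
  have hq : Function.Surjective q := fun a => by
    obtain ⟨g, hg⟩ := QuotientGroup.mk'_surjective Z (γ a)
    exact ⟨⟨(g, a), hg⟩, rfl⟩
  have hqc : q.ker ≤ Subgroup.center S := by
    rintro ⟨⟨g, a⟩, hm⟩ hk
    obtain rfl : a = 1 := hk
    have hg : g ∈ Z := (QuotientGroup.eq_one_iff g).mp ((show QuotientGroup.mk' Z g = γ 1 from hm).trans (map_one γ))
    rw [Subgroup.mem_center_iff]
    rintro ⟨⟨g', a'⟩, hm'⟩
    exact Subtype.ext (Prod.ext (Subgroup.mem_center_iff.mp hg g') (by simp))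
  obtain ⟨θ, hθ⟩ := exists_lift (π := p) hq hqc
  let ρ₀ : Ext p →* GL (Fin n) ℂ := ((MonoidHom.fst _ _).comp S.subtype).comp θ
  have hρ₀ : ∀ x, QuotientGroup.mk' Z (ρ₀ x) = γ (proj p x) := fun x => by
    refine (θ x).2.trans ?_
    show γ (q (θ x)) = _
    rw [← MonoidHom.comp_apply q θ, hθ]
  have hZ : ∀ x ∈ η.ker, ρ₀ x ∈ Z := fun x hx => (QuotientGroup.eq_one_iff _).mp ((hρ₀ x).trans (by
    rw [MonoidHom.mem_ker.mp (hN hx), map_one]))
  letI : CommGroup η.ker := { (inferInstance : Group η.ker) with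
    mul_comm := fun a b => Subtype.ext (Subgroup.mem_center_iff.mp (ker_le_center p (hN b.2)) a) }
  obtain ⟨g, hg⟩ := extend_center (A := Abelianization (Ext p)) (Abelianization.of.comp η.ker.subtype)
    ((injective_iff_map_eq_one _).mpr fun x hx => Subtype.ext (hNM x.1 x.2 (by
      rw [← Abelianization.ker_of]; exact hx)))
    ((ρ₀.comp η.ker.subtype).codRestrict Z fun x => hZ x.1 x.2)
  let c : Ext p →* GL (Fin n) ℂ := Z.subtype.comp (g.comp Abelianization.of)
  have hc : ∀ x, c x ∈ Z := fun x => (g (Abelianization.of x)).2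
  let ρ₁ : Ext p →* GL (Fin n) ℂ :=
    { toFun := fun x => ρ₀ x * (c x)⁻¹
      map_one' := by rw [map_one, map_one, inv_one, mul_one]
      map_mul' := fun x y => by
        have h := Subgroup.mem_center_iff.mp (inv_mem (hc x))
        rw [map_mul, map_mul, mul_inv_rev]
        calc ρ₀ x * ρ₀ y * ((c y)⁻¹ * (c x)⁻¹) = ρ₀ x * (ρ₀ y * (c y)⁻¹ * (c x)⁻¹) := by simp only [mul_assoc]
          _ = ρ₀ x * ((c x)⁻¹ * (ρ₀ y * (c y)⁻¹)) := by rw [h]
          _ = ρ₀ x * (c x)⁻¹ * (ρ₀ y * (c y)⁻¹) := by simp only [mul_assoc] }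
  have hker : η.ker ≤ ρ₁.ker := fun x hx => by
    have h := congrArg Subtype.val (DFunLike.congr_fun hg ⟨x, hx⟩)
    show ρ₀ x * (c x)⁻¹ = 1
    rw [mul_inv_eq_one]
    exact h.symm
  refine ⟨(η.liftOfRightInverse _ (Function.rightInverse_surjInv hsurj)) ⟨ρ₁, hker⟩, MonoidHom.ext fun y => ?_⟩
  obtain ⟨x, rfl⟩ := hsurj y
  simp only [MonoidHom.comp_apply]
  rw [MonoidHom.liftOfRightInverse_comp_apply]
  show QuotientGroup.mk' Z (ρ₀ x * (c x)⁻¹) = γ (σ (η x))
  rw [map_mul, hρ₀, ← MonoidHom.comp_apply σ η, hη]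
  have : QuotientGroup.mk' Z (c x)⁻¹ = 1 := (QuotientGroup.eq_one_iff _).mpr (inv_mem (hc x))
  rw [this, mul_one]

/-- The monomial representation induced from a linear character of the multiplier. -/
theorem exists_monomial {Q : Type u} [Group Q] [Finite Q] (χ : mult (basePres Q) →* ℂˣ) :
    ∃ (n : ℕ) (_ : 0 < n) (ρ : Ext (basePres Q) →* GL (Fin n) ℂ),
      (∀ x ∈ (proj (basePres Q)).ker, ρ x ∈ Subgroup.center (GL (Fin n) ℂ)) ∧
      ∀ m : mult (basePres Q), ρ m = Matrix.GeneralLinearGroup.scalar (Fin n) (χ m) := by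
  classical
  let p := basePres Q
  have hp := basePres_surjective Q
  obtain ⟨L, hL, hn, h1, h2⟩ := exists_compl' p
  obtain ⟨-, -, e, he⟩ := cover_spec hp hL h1 h2
  let toK : (proj p).ker →* (coverMap p hL).ker :=
    ((QuotientGroup.mk' L).comp (proj p).ker.subtype).codRestrict _ fun k => k.2
  let χ' : (proj p).ker →* ℂˣ := χ.comp (e.symm.toMonoidHom.comp toK)
  have hχ' : ∀ m : mult p, χ' ⟨m.1, m.2.1⟩ = χ m := fun m => by
    show χ (e.symm (toK ⟨m.1, m.2.1⟩)) = χ m
    rw [show toK ⟨m.1, m.2.1⟩ = e m from Subtype.ext (he m).symm, MulEquiv.symm_apply_apply]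
  haveI := Fintype.ofFinite Q
  let s : Q → Ext p := Function.surjInv (proj_surjective hp)
  have hs : ∀ q, proj p (s q) = q := Function.surjInv_eq (proj_surjective hp)
  let c : Ext p → Q → ℂ := fun x q => ((χ' ⟨(s (proj p x * q))⁻¹ * (x * s q), by
    rw [MonoidHom.mem_ker, map_mul, map_inv, map_mul, hs, hs, inv_mul_cancel]⟩ : ℂˣ) : ℂ)
  let T : Ext p → Matrix Q Q ℂ := fun x => Matrix.of fun i j => if i = proj p x * j then c x j else 0
  have hc : ∀ x y q, c (x * y) q = c x (proj p y * q) * c y q := fun x y q => by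
    simp only [c]
    rw [← Units.val_mul]
    refine (congrArg (fun t => ((χ' t : ℂˣ) : ℂ)) (Subtype.ext ?_)).trans (congrArg Units.val (MonoidHom.map_mul χ' _ _))
    show (s (proj p (x * y) * q))⁻¹ * (x * y * s q) =
      (s (proj p x * (proj p y * q)))⁻¹ * (x * s (proj p y * q)) * ((s (proj p y * q))⁻¹ * (y * s q))
    rw [MonoidHom.map_mul, mul_assoc (proj p x)]
    group
  have hT : ∀ x y, T (x * y) = T x * T y := fun x y => by
    ext i j
    rw [Matrix.mul_apply, Finset.sum_eq_single (proj p y * j)]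
    · simp only [T, Matrix.of_apply, if_true, map_mul, mul_assoc]
      split_ifs with h
      · exact hc x y j
      · rw [zero_mul]
    · intro b _ hb
      simp only [T, Matrix.of_apply, if_neg hb, mul_zero]
    · exact fun h => absurd (Finset.mem_univ _) h
  have hTk : ∀ x (hx : x ∈ (proj p).ker), T x = ((χ' ⟨x, hx⟩ : ℂˣ) : ℂ) • (1 : Matrix Q Q ℂ) := fun x hx => by
    ext i j
    have hx1 : proj p x = 1 := hx
    simp only [T, Matrix.of_apply, hx1, one_mul, Matrix.smul_apply, Matrix.one_apply, smul_eq_mul, mul_ite, mul_one,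
      mul_zero]
    split_ifs with h
    · simp only [c]
      congr 2
      refine Subtype.ext ?_
      show (s (proj p x * j))⁻¹ * (x * s j) = x
      rw [hx1, one_mul, ← Subgroup.mem_center_iff.mp (ker_le_center p hx) (s j), inv_mul_cancel_left]
    · rfl
  let Tm : Ext p →* Matrix Q Q ℂ :=
    { toFun := T
      map_one' := by rw [hTk 1 (one_mem _), show (⟨1, one_mem _⟩ : (proj p).ker) = 1 from rfl, MonoidHom.map_one, Units.val_one, one_smul]
      map_mul' := hT }
  let R : Matrix Q Q ℂ ≃ₐ[ℂ] Matrix (Fin (Fintype.card Q)) (Fin (Fintype.card Q)) ℂ :=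
    Matrix.reindexAlgEquiv ℂ ℂ (Fintype.equivFin Q)
  let ρ : Ext p →* GL (Fin (Fintype.card Q)) ℂ := ((R.toAlgHom : _ →* _).comp Tm).toHomUnits
  have hval : ∀ x (hx : x ∈ (proj p).ker), ρ x = Matrix.GeneralLinearGroup.scalar _ (χ' ⟨x, hx⟩) := fun x hx => by
    refine Units.ext ?_
    show R (T x) = _
    rw [hTk x hx, map_smul, map_one]
    simp [Matrix.smul_one_eq_diagonal]
  refine ⟨Fintype.card Q, Fintype.card_pos, ρ, fun x hx => ?_, fun m => ?_⟩
  · rw [hval x hx, Matrix.GeneralLinearGroup.center_eq_range_scalar]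
    exact ⟨_, rfl⟩
  · rw [hval m.1 m.2.1, hχ' m]

/-- If all projective representations lift along a stem extension, the multiplier embeds in its kernel. -/
theorem card_le_of_lift {Q : Type u} [Group Q] [Finite Q] {Γ : Type v} [Group Γ] [Finite Γ] {σ : Γ →* Q}
    (hσ : Cfsg.IsStemExtension σ) (hlift : ∀ (n : ℕ) (γ : Q →* (GL (Fin n) ℂ ⧸ Subgroup.center (GL (Fin n) ℂ))),
      ∃ ρ : Γ →* GL (Fin n) ℂ, (QuotientGroup.mk' (Subgroup.center (GL (Fin n) ℂ))).comp ρ = γ.comp σ) :
    Nat.card (mult (basePres Q)) ≤ Nat.card σ.ker := by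
  let p := basePres Q
  have hp := basePres_surjective Q
  haveI := finite_mult p
  obtain ⟨η, hη⟩ := exists_lift (π := p) hσ.1 hσ.2.1
  obtain ⟨-, hmap⟩ := surjective_of_stem hp hσ.2.1 hσ.2.2 hη
  let f : mult p →* σ.ker := (η.comp (mult p).subtype).codRestrict _ fun m => hmap.le ⟨m, m.2, rfl⟩
  refine Nat.card_le_card_of_injective f ((injective_iff_map_eq_one f).mpr fun m hm => ?_)
  by_contra hm1
  haveI : HasEnoughRootsOfUnity ℂ (Monoid.exponent (mult p)) :=
    haveI : NeZero (Monoid.exponent (mult p)) := ⟨Monoid.exponent_ne_zero_of_finite⟩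
    inferInstance
  obtain ⟨χ, hχ⟩ := CommGroup.exists_apply_ne_one_of_hasEnoughRootsOfUnity (mult p) ℂ hm1
  obtain ⟨n, hn0, ρ, hρc, hρm⟩ := exists_monomial χ
  let Z := Subgroup.center (GL (Fin n) ℂ)
  let γ : Q →* GL (Fin n) ℂ ⧸ Z := (proj p).liftOfRightInverse _ (Function.rightInverse_surjInv (proj_surjective hp))
    ⟨(QuotientGroup.mk' Z).comp ρ, fun x hx => (QuotientGroup.eq_one_iff _).mpr (hρc x hx)⟩
  have hγ : ∀ x, γ (proj p x) = QuotientGroup.mk' Z (ρ x) := fun x =>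
    MonoidHom.liftOfRightInverse_comp_apply _ _ _ _ x
  obtain ⟨r, hr⟩ := hlift n γ
  have hdiff : ∀ x, r (η x) * (ρ x)⁻¹ ∈ Z := fun x => (QuotientGroup.eq_one_iff _).mp (by
    have h := DFunLike.congr_fun hr (η x)
    simp only [MonoidHom.comp_apply] at h
    rw [← MonoidHom.comp_apply σ η, hη, hγ] at h
    show QuotientGroup.mk' Z (r (η x) * (ρ x)⁻¹) = 1
    rw [map_mul, h, map_inv, mul_inv_cancel])
  let d : Ext p →* Z :=
    { toFun := fun x => ⟨r (η x) * (ρ x)⁻¹, hdiff x⟩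
      map_one' := Subtype.ext (by simp)
      map_mul' := fun x y => Subtype.ext (by
        have h := Subgroup.mem_center_iff.mp (hdiff y)
        show r (η (x * y)) * (ρ (x * y))⁻¹ = r (η x) * (ρ x)⁻¹ * (r (η y) * (ρ y)⁻¹)
        rw [map_mul, map_mul, map_mul, mul_inv_rev]
        calc r (η x) * r (η y) * ((ρ y)⁻¹ * (ρ x)⁻¹) = r (η x) * (r (η y) * (ρ y)⁻¹ * (ρ x)⁻¹) := by simp only [mul_assoc]
          _ = r (η x) * ((ρ x)⁻¹ * (r (η y) * (ρ y)⁻¹)) := by rw [h (ρ x)⁻¹]
          _ = r (η x) * (ρ x)⁻¹ * (r (η y) * (ρ y)⁻¹) := by simp only [mul_assoc]) }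
  letI : CommGroup Z := { (inferInstance : Group Z) with
    mul_comm := fun a b => Subtype.ext (Subgroup.mem_center_iff.mp b.2 a) }
  have hd := congrArg Subtype.val (MonoidHom.mem_ker.mp (Abelianization.commutator_subset_ker d m.2.2))
  have hηm : η m.1 = 1 := congrArg Subtype.val hm
  have hd' : r (η m.1) * (ρ m.1)⁻¹ = 1 := hd
  rw [hηm, map_one, one_mul, inv_eq_one, hρm] at hd'
  refine hχ (Units.ext ?_)
  have := congrArg (fun g : GL (Fin n) ℂ => (g : Matrix (Fin n) (Fin n) ℂ) ⟨0, hn0⟩ ⟨0, hn0⟩) hd'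
  simpa using this

end CfsgLib.Schur
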