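import Cfsg.Agent.Lib.SchurTheory.Hopf

/-!
Restriction and corestriction between the multiplier of a group and that of a subgroup.
-/

set_option autoImplicit false

namespace CfsgLib.Schur

open scoped commutatorElement

universe u v w

/-- A quotient of a subgroup of a finite abelian group embeds in it. -/
theorem embed_of_subquotient {B : Type u} [CommGroup B] [Finite B] {S : Type v} [CommGroup S] [Finite S]
    {C : Type w} [CommGroup C] [Finite C] (i : S →* B) (hi : Function.Injective i) (f : S →* C)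
    (hf : Function.Surjective f) : ∃ g : C →* B, Function.Injective g := by
  haveI : NeZero (Monoid.exponent C) := ⟨Monoid.exponent_ne_zero_of_finite⟩
  haveI : NeZero (Monoid.exponent S) := ⟨Monoid.exponent_ne_zero_of_finite⟩
  obtain ⟨eC⟩ := CommGroup.monoidHom_mulEquiv_of_hasEnoughRootsOfUnity C ℂ
  obtain ⟨eS⟩ := CommGroup.monoidHom_mulEquiv_of_hasEnoughRootsOfUnity S ℂ
  let d : (C →* ℂˣ) →* (S →* ℂˣ) :=
    { toFun := fun χ => χ.comp f, map_one' := rfl, map_mul' := fun _ _ => rfl }
  have hd : Function.Injective d := fun a b h => MonoidHom.ext fun c => by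
    obtain ⟨s, rfl⟩ := hf c
    exact DFunLike.congr_fun (show a.comp f = b.comp f from h) s
  exact ⟨i.comp (eS.toMonoidHom.comp (d.comp eC.symm.toMonoidHom)),
    hi.comp (eS.injective.comp (hd.comp eC.symm.injective))⟩

/-- The restriction and corestriction maps. -/
theorem exists_res_cor {G : Type u} [Group G] [Finite G] (U : Subgroup G) {B : Type v} [CommGroup B]
    (hB : Cfsg.HasSchurMultiplier U B) : ∃ (res : mult (basePres G) →* B) (cor : B →* mult (basePres G)),
      ∀ m, cor (res m) = m ^ U.index := by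
  classical
  set π := basePres G with hπdef
  have hπ : Function.Surjective π := basePres_surjective G
  let FU : Subgroup (FreeGroup G) := U.comap π
  let πU : FU →* U := (π.comp FU.subtype).codRestrict U fun x => x.2
  have hπU : Function.Surjective πU := fun u => by
    obtain ⟨x, hx⟩ := hπ u.1
    exact ⟨⟨x, by show π x ∈ U; rw [hx]; exact u.2⟩, Subtype.ext hx⟩
  have hidx : FU.index = U.index := U.index_comap_of_surjective hπ
  haveI : FU.FiniteIndex := ⟨by rw [hidx]; exact Subgroup.FiniteIndex.index_ne_zero⟩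
  haveI : Group.FG (FreeGroup G) := inferInstance
  haveI : Group.FG FU := Subgroup.fg_of_index_ne_zero FU
  haveI := finite_mult πU
  obtain ⟨eB⟩ := mulEquiv_mult hB hπU
  -- corestriction
  let j : Ext πU →* Ext π := QuotientGroup.map (rel πU) (rel π) FU.subtype (by
    rw [Subgroup.commutator_le]
    intro a ha b _
    rw [Subgroup.mem_comap, map_commutatorElement]
    exact Subgroup.commutator_mem_commutator (congrArg Subtype.val ha) (Subgroup.mem_top _))
  have hjmem : ∀ y ∈ mult πU, j y ∈ mult π := by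
    intro y hy
    refine ⟨?_, ?_⟩
    · obtain ⟨hy1, -⟩ := hy
      induction y using QuotientGroup.induction_on with
      | _ a => exact congrArg Subtype.val hy1
    · have h := Subgroup.mem_map_of_mem j hy.2
      rw [commutator_def, Subgroup.map_commutator] at h
      exact Subgroup.commutator_mono le_top le_top h
  let cor : mult πU →* mult π := (j.comp (mult πU).subtype).codRestrict _ fun y => hjmem y.1 y.2
  -- the norm map on the relations
  letI : CommGroup (proj πU).ker := { (inferInstance : Group (proj πU).ker) with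
    mul_comm := fun a b => Subtype.ext (Subgroup.mem_center_iff.mp (ker_le_center πU b.2) a) }
  haveI : Fintype (FreeGroup G ⧸ FU) := FU.fintypeQuotientOfFiniteIndex
  have hconj : ∀ (g : FreeGroup G), ∀ x ∈ π.ker, g⁻¹ * x * g ∈ FU := fun g x hx => by
    show π (g⁻¹ * x * g) ∈ U
    rw [map_mul, map_mul, MonoidHom.mem_ker.mp hx, mul_one, map_inv, inv_mul_cancel]
    exact one_mem U
  have hker' : ∀ (g : FreeGroup G) (x : π.ker), (↑(⟨g⁻¹ * x.1 * g, hconj g x.1 x.2⟩ : FU) : Ext πU) ∈ (proj πU).ker :=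
    fun g x => Subtype.ext (show π (g⁻¹ * x.1 * g) = 1 by
      rw [map_mul, map_mul, MonoidHom.mem_ker.mp x.2, mul_one, map_inv, inv_mul_cancel])
  let term : FreeGroup G → π.ker →* (proj πU).ker := fun g =>
    { toFun := fun x => ⟨_, hker' g x⟩
      map_one' := Subtype.ext (by
        show ((⟨g⁻¹ * 1 * g, _⟩ : FU) : Ext πU) = ((1 : FU) : Ext πU)
        exact congrArg _ (Subtype.ext (by simp)))
      map_mul' := fun x y => Subtype.ext (by
        show ((⟨g⁻¹ * (x.1 * y.1) * g, _⟩ : FU) : Ext πU) = ((⟨g⁻¹ * x.1 * g, _⟩ * ⟨g⁻¹ * y.1 * g, _⟩ : FU) : Ext πU)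
        exact congrArg _ (Subtype.ext (by show g⁻¹ * (x.1 * y.1) * g = g⁻¹ * x.1 * g * (g⁻¹ * y.1 * g); group))) }
  let N : π.ker →* (proj πU).ker := ∏ q : FreeGroup G ⧸ FU, term q.out
  have hterm : ∀ (g h : FreeGroup G) (x : π.ker), (g : FreeGroup G ⧸ FU) = h → term g x = term h x := by
    intro g h x hgh
    obtain ⟨u, hu⟩ : ∃ u : FU, h = g * u := ⟨⟨g⁻¹ * h, QuotientGroup.eq.mp hgh⟩, by simp⟩
    subst hu
    refine Subtype.ext ?_
    have hc := Subgroup.mem_center_iff.mp (ker_le_center πU (hker' g x)) (u⁻¹ : FU)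
    show ((⟨g⁻¹ * x.1 * g, _⟩ : FU) : Ext πU) = ((⟨(g * u)⁻¹ * x.1 * (g * u), _⟩ : FU) : Ext πU)
    have e : (⟨(g * u)⁻¹ * x.1 * (g * u), hconj _ x.1 x.2⟩ : FU) = u⁻¹ * ⟨g⁻¹ * x.1 * g, hconj g x.1 x.2⟩ * u :=
      Subtype.ext (by simp [mul_assoc])
    rw [e, QuotientGroup.mk_mul, QuotientGroup.mk_mul, hc, QuotientGroup.mk_inv, inv_mul_cancel_right]
  have hN : ∀ (f : FreeGroup G) (x : π.ker) (hfx : f * x.1 * f⁻¹ ∈ π.ker), N ⟨f * x.1 * f⁻¹, hfx⟩ = N x := by
    intro f x hfx
    simp only [N, MonoidHom.finsetProd_apply]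
    refine Fintype.prod_equiv (MulAction.toPerm f⁻¹) _ _ fun q => ?_
    have h1 : term q.out ⟨f * x.1 * f⁻¹, hfx⟩ = term (f⁻¹ * q.out) x := Subtype.ext (by
      show ((⟨q.out⁻¹ * (f * x.1 * f⁻¹) * q.out, _⟩ : FU) : Ext πU) = ((⟨(f⁻¹ * q.out)⁻¹ * x.1 * (f⁻¹ * q.out), _⟩ : FU) : Ext πU)
      exact congrArg _ (Subtype.ext (by simp [mul_assoc])))
    rw [h1]
    refine hterm _ _ x ?_
    rw [MulAction.toPerm_apply, QuotientGroup.out_eq', ← smul_eq_mul, ← MulAction.Quotient.smul_mk,
      QuotientGroup.out_eq']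
  have hrel : ∀ x (hx : x ∈ rel π), N ⟨x, rel_le_ker π hx⟩ = 1 := by
    suffices h : rel π ≤ (N.ker).map π.ker.subtype by
      intro x hx
      obtain ⟨y, hy, rfl⟩ := h hx
      exact hy
    rw [Subgroup.commutator_le]
    intro r hr f _
    have hf : f * r⁻¹ * f⁻¹ ∈ π.ker := by simpa using (inv_mem hr : r⁻¹ ∈ π.ker)
    refine ⟨⟨r, hr⟩ * ⟨f * r⁻¹ * f⁻¹, hf⟩, ?_, ?_⟩
    · rw [SetLike.mem_coe, MonoidHom.mem_ker, map_mul, hN f ⟨r⁻¹, inv_mem hr⟩ hf, ← map_mul]
      rw [show (⟨r, hr⟩ * ⟨r⁻¹, inv_mem hr⟩ : π.ker) = 1 from Subtype.ext (mul_inv_cancel r), map_one]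
    · show r * (f * r⁻¹ * f⁻¹) = ⁅r, f⁆
      rw [commutatorElement_def]; group
  have hcomm : ∀ (x : π.ker), x.1 ∈ commutator (FreeGroup G) → (N x).1 ∈ commutator (Ext πU) := by
    intro x hx
    let φ : FU →* Abelianization (Ext πU) := Abelianization.of.comp (QuotientGroup.mk' _)
    have hT : (MonoidHom.transfer φ) x.1 = 1 := Abelianization.commutator_subset_ker _ hx
    let T : FU.LeftTransversal := ⟨_, Subgroup.isComplement_range_left (fun q : FreeGroup G ⧸ FU => QuotientGroup.out_eq' q)⟩
    have hTq : ∀ q, ((T.2.leftQuotientEquiv q : _) : FreeGroup G) = q.out := fun q =>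
      Subgroup.IsComplement.leftQuotientEquiv_apply (fun q : FreeGroup G ⧸ FU => QuotientGroup.out_eq' q) q
    have hfix : ∀ q : FreeGroup G ⧸ FU, x.1⁻¹ • q = q := fun q => by
      induction q using QuotientGroup.induction_on with
      | _ g =>
        rw [MulAction.Quotient.smul_mk, QuotientGroup.eq]
        simpa [smul_eq_mul, mul_assoc] using hconj g x.1 x.2
    rw [MonoidHom.transfer_def φ T, Subgroup.leftTransversals.diff] at hT
    rw [← Abelianization.ker_of, MonoidHom.mem_ker]
    refine Eq.trans ?_ hT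
    rw [MonoidHom.finsetProd_apply]
    show (Abelianization.of.comp (proj πU).ker.subtype) (∏ q : FreeGroup G ⧸ FU, term q.out x) = _
    rw [map_prod]
    refine Finset.prod_congr (Finset.ext fun q => by simp) fun q _ => ?_
    refine congrArg φ (Subtype.ext ?_)
    show q.out⁻¹ * x.1 * q.out = (T.2.leftQuotientEquiv q : FreeGroup G)⁻¹ * ((x.1 • T).2.leftQuotientEquiv q : FreeGroup G)
    rw [Subgroup.smul_apply_eq_smul_apply_inv_smul, hfix, hTq, smul_eq_mul, mul_assoc]
  have hlift : ∀ m : mult π, ∃ x : π.ker, x.1 ∈ commutator (FreeGroup G) ∧ ((x.1 : FreeGroup G) : Ext π) = m := by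
    intro m
    have h := Subgroup.map_commutator (⊤ : Subgroup (FreeGroup G)) ⊤ (QuotientGroup.mk' (rel π))
    rw [Subgroup.map_top_of_surjective _ (QuotientGroup.mk'_surjective _), ← commutator_def, ← commutator_def] at h
    obtain ⟨c, hc, hcm⟩ := h.ge m.2.2
    refine ⟨⟨c, ?_⟩, hc, hcm⟩
    rw [MonoidHom.mem_ker, ← proj_mk π c]
    show proj π (QuotientGroup.mk' _ c) = 1
    rw [hcm]
    exact m.2.1
  choose lift hlc hlm using hlift
  let res : mult π →* mult πU :=
    { toFun := fun m => ⟨(N (lift m)).1, (N (lift m)).2, hcomm _ (hlc m)⟩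
      map_one' := by
        refine Subtype.ext ?_
        have h : (lift 1).1 ∈ rel π := (QuotientGroup.eq_one_iff _).mp (hlm 1)
        show (N (lift 1)).1 = 1
        exact congrArg Subtype.val (hrel _ h)
      map_mul' := fun a b => by
        refine Subtype.ext ?_
        have h : ((lift a * lift b)⁻¹ * lift (a * b) : π.ker).1 ∈ rel π := by
          rw [← QuotientGroup.eq_one_iff (N := rel π)]
          show ((((lift a).1 * (lift b).1)⁻¹ * (lift (a * b)).1 : FreeGroup G) : Ext π) = 1
          rw [QuotientGroup.mk_mul, QuotientGroup.mk_inv, QuotientGroup.mk_mul, hlm, hlm, hlm]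
          exact inv_mul_cancel _
        have h2 := hrel _ h
        rw [map_mul, map_inv, map_mul, inv_mul_eq_one] at h2
        show (N (lift (a * b))).1 = (N (lift a)).1 * (N (lift b)).1
        rw [← h2]
        rfl }
  refine ⟨eB.symm.toMonoidHom.comp res, cor.comp eB.toMonoidHom, fun m => Subtype.ext ?_⟩
  show j (eB (eB.symm (res m))).1 = ((m ^ U.index : mult π) : Ext π)
  rw [MulEquiv.apply_symm_apply, Subgroup.coe_pow]
  show j (N (lift m)).1 = _
  simp only [N, MonoidHom.finsetProd_apply]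
  have hstep : ∀ q : FreeGroup G ⧸ FU, j (term q.out (lift m)).1 = m.1 := fun q => by
    show ((q.out⁻¹ * (lift m).1 * q.out : FreeGroup G) : Ext π) = m.1
    rw [QuotientGroup.mk_mul, QuotientGroup.mk_mul, hlm, QuotientGroup.mk_inv,
      Subgroup.mem_center_iff.mp (mult_le_center π m.2), inv_mul_cancel_right]
  let jK : (proj πU).ker →* (proj π).ker := (j.comp (proj πU).ker.subtype).codRestrict _ fun y => by
    obtain ⟨y, hy⟩ := y
    induction y using QuotientGroup.induction_on with
    | _ a => exact congrArg Subtype.val hy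
  letI : CommGroup (proj π).ker := { (inferInstance : Group (proj π).ker) with
    mul_comm := fun a b => Subtype.ext (Subgroup.mem_center_iff.mp (ker_le_center π b.2) a) }
  have := congrArg Subtype.val (map_prod jK (fun q : FreeGroup G ⧸ FU => term q.out (lift m)) Finset.univ)
  refine this.trans ?_
  rw [Finset.prod_congr rfl (g := fun _ => (⟨m.1, m.2.1⟩ : (proj π).ker)) fun q _ => Subtype.ext (hstep q),
    Finset.prod_const, Finset.card_univ, ← Nat.card_eq_fintype_card, Subgroup.coe_pow]
  rw [show Nat.card (FreeGroup G ⧸ FU) = U.index from hidx]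

end CfsgLib.Schur
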